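import Cfsg.Agent.Lib.M24Order.Keys6P22_12
import Cfsg.Agent.Lib.M24Order.Keys6Dead

/-!
# Simple groups of order 244823040, `|N(P₇) : C(P₇)| = 6`: checks, member of degree 22, k = 12, list 196, solution 3, part 0
-/

set_option autoImplicit false

namespace CfsgLib.M24Order.E6

set_option maxHeartbeats 0
set_option maxRecDepth 100000
set_option Elab.async false

theorem dead12_196_3_p0 : deadPart (fun ms => true && (ms.count (-230) == 0) && ms.contains (-483)) live22_12_196.es (decS 15360 604458874652966947127347 803445268449342512610672806348907752193645268778849413890039) = true := by decide +kernel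

end CfsgLib.M24Order.E6
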