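import Cfsg.Agent.Lib.M24Order.K6.D22_12_196_0a
import Cfsg.Agent.Lib.M24Order.K6.D22_12_196_0b
import Cfsg.Agent.Lib.M24Order.K6.D22_12_196_1a
import Cfsg.Agent.Lib.M24Order.K6.D22_12_196_1b
import Cfsg.Agent.Lib.M24Order.K6.D22_12_196_2a
import Cfsg.Agent.Lib.M24Order.K6.D22_12_196_2b
import Cfsg.Agent.Lib.M24Order.K6.D22_12_196_3a
import Cfsg.Agent.Lib.M24Order.K6.D22_12_196_3b
import Cfsg.Agent.Lib.M24Order.K6.D22_12_196_3c
import Cfsg.Agent.Lib.M24Order.K6.D22_12_196_3d
import Cfsg.Agent.Lib.M24Order.K6.D22_12_196_4a
import Cfsg.Agent.Lib.M24Order.K6.D22_12_196_4b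

/-!
# Simple groups of order 244823040, `|N(P₇) : C(P₇)| = 6`: checks, member of degree 22, k = 12, list 196, from parts
-/

set_option autoImplicit false

namespace CfsgLib.M24Order.E6

set_option maxHeartbeats 0
set_option maxRecDepth 100000
set_option Elab.async false

theorem dead12_196_0 : deadS live22_12_196.es (decS 3840 604435816112923668381687 803457528419515407244617673350457708599750965086602184359927) = true :=
  deadS_of_part (deadPart_split (sel := fun ms => true) (fun ms => (ms.count (-230) == 0)) (deadPart_split (sel := fun ms => true && (ms.count (-230) == 0)) (fun ms => ms.contains (-483)) dead12_196_0_p0 dead12_196_0_p1) (deadPart_split (sel := fun ms => true && !(ms.count (-230) == 0)) (fun ms => (ms.count (-230) == 1)) dead12_196_0_p2 dead12_196_0_p3))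

theorem dead12_196_1 : deadS live22_12_196.es (decS 3840 604435816112923668381687 803463658389986863276590183025592616558684744047933834919927) = true :=
  deadS_of_part (deadPart_split (sel := fun ms => true) (fun ms => (ms.count (-230) == 0)) (deadPart_split (sel := fun ms => true && (ms.count (-230) == 0)) (fun ms => ms.contains (-483)) dead12_196_1_p0 dead12_196_1_p1) (deadPart_split (sel := fun ms => true && !(ms.count (-230) == 0)) (fun ms => (ms.count (-230) == 1)) dead12_196_1_p2 dead12_196_1_p3))

theorem dead12_196_2 : deadS live22_12_196.es (decS 3840 604435816112923668381687 803457528407823394145970450004828229938025312619771197915127) = true :=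
  deadS_of_part (deadPart_split (sel := fun ms => true) (fun ms => (ms.count (-230) == 0)) (deadPart_split (sel := fun ms => true && (ms.count (-230) == 0)) (fun ms => ms.contains (-483)) dead12_196_2_p0 dead12_196_2_p1) (deadPart_split (sel := fun ms => true && !(ms.count (-230) == 0)) (fun ms => (ms.count (-230) == 1)) dead12_196_2_p2 dead12_196_2_p3))

theorem dead12_196_3 : deadS live22_12_196.es (decS 15360 604458874652966947127347 803445268449342512610672806348907752193645268778849413890039) = true :=
  deadS_of_part (deadPart_split (sel := fun ms => true) (fun ms => (ms.count (-230) == 0)) (deadPart_split (sel := fun ms => true && (ms.count (-230) == 0)) (fun ms => ms.contains (-483)) dead12_196_3_p0 dead12_196_3_p1) (deadPart_split (sel := fun ms => true && !(ms.count (-230) == 0)) (fun ms => (ms.count (-230) == 1)) dead12_196_3_p2 dead12_196_3_p3))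

theorem dead12_196_4 : deadS live22_12_196.es (decS 23040 604366640756676538925027 803433008449939501602448309216966749769350613970264693145591) = true :=
  deadS_of_part (deadPart_split (sel := fun ms => true) (fun ms => (ms.count (-230) == 0)) (deadPart_split (sel := fun ms => true && (ms.count (-230) == 0)) (fun ms => ms.contains (-483)) dead12_196_4_p0 dead12_196_4_p1) (deadPart_split (sel := fun ms => true && !(ms.count (-230) == 0)) (fun ms => (ms.count (-230) == 1)) dead12_196_4_p2 dead12_196_4_p3))

end CfsgLib.M24Order.E6
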