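import Cfsg.Agent.Lib.M24Order.Keys6P22_12
import Cfsg.Agent.Lib.M24Order.Keys6Glue22
import Cfsg.Agent.Lib.M24Order.K6.D22_12_196

/-!
# Simple groups of order 244823040, `|N(P₇) : C(P₇)| = 6`: checks, list 196, k = 12
-/

set_option autoImplicit false

namespace CfsgLib.M24Order.E6

set_option maxHeartbeats 0
set_option maxRecDepth 100000
set_option Elab.async false

theorem s12_196_1_0 : okS2 12 tabS12 live22_12_196 (live22_12_196.ks.getD 1 (deadK 0)) [decS 3840 604435816112923668381687 803457528419515407244617673350457708599750965086602184359927, decS 3840 604435816112923668381687 803463658389986863276590183025592616558684744047933834919927, decS 3840 604435816112923668381687 803457528407823394145970450004828229938025312619771197915127, decS 15360 604458874652966947127347 803445268449342512610672806348907752193645268778849413890039, decS 23040 604366640756676538925027 803433008449939501602448309216966749769350613970264693145591] [20,140,60,420,180,1260,540,3780,40,280,120,840,360,2520,1080,7560,80,560,240,1680,720,5040,2160,15120,160,1120,480,3360,1440,10080,4320,30240,320,2240,960,6720,2880,20160,8640,60480,640,4480,1920,13440,5760,40320,17280,120960,1280,8960,3840,26880,11520,80640,34560,241920,2560,17920,7680,53760,23040,161280,69120,483840,5120,35840,15360,107520,46080,322560,138240,967680]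 = true := by decide +kernel

theorem y12_196 : okY 12 live22_12_196 = true := by decide +kernel

theorem w12_196 : live22_12_196.ks.all (okW 22 12 live22_12_196) = true := by decide +kernel

theorem m12_196 : live22_12_196.ks.all (okM live22_12_196) = true := by decide +kernel

theorem ks12_196 : live22_12_196.ks.map KP.k7 = [192, 24, 3] := by decide +kernel

theorem live22_12_196_ok : okPlan 22 12 tabS12 tabZ12 live22_12_196 = true := by
  refine okPlan_of22 [decS 3840 604435816112923668381687 803457528419515407244617673350457708599750965086602184359927, decS 3840 604435816112923668381687 803463658389986863276590183025592616558684744047933834919927, decS 3840 604435816112923668381687 803457528407823394145970450004828229938025312619771197915127, decS 15360 604458874652966947127347 803445268449342512610672806348907752193645268778849413890039, decS 23040 604366640756676538925027 803433008449939501602448309216966749769350613970264693145591] ks12_196 y12_196 w12_196 ?_ ?_ ?_ m12_196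
  · intro K hK
    obtain ⟨j, hj, rfl⟩ := List.getElem_of_mem hK
    match j, hj with
    | 0, _ => exact Or.inl rfl
    | 1, _ => exact Or.inr (okS1_of (Cs := [[20,140,60,420,180,1260,540,3780,40,280,120,840,360,2520,1080,7560,80,560,240,1680,720,5040,2160,15120,160,1120,480,3360,1440,10080,4320,30240,320,2240,960,6720,2880,20160,8640,60480,640,4480,1920,13440,5760,40320,17280,120960,1280,8960,3840,26880,11520,80640,34560,241920,2560,17920,7680,53760,23040,161280,69120,483840,5120,35840,15360,107520,46080,322560,138240,967680]]) (by decide +kernel) (by
      intro l hl
      simp only [List.mem_cons, List.not_mem_nil, or_false] at hl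
      rcases hl with rfl
      exacts [s12_196_1_0]))
    | 2, _ => exact Or.inl rfl
    | n + 3, h => exact absurd h (by simp [live22_12_196])
  · intro s hs
    simp only [List.mem_cons, List.not_mem_nil, or_false] at hs
    rcases hs with rfl | rfl | rfl | rfl | rfl
    exacts [dead12_196_0, dead12_196_1, dead12_196_2, dead12_196_3, dead12_196_4]
  · intro K hK
    obtain ⟨j, hj, rfl⟩ := List.getElem_of_mem hK
    match j, hj with
    | 0, _ => rfl
    | 1, _ => rfl
    | 2, _ => rfl
    | n + 3, h => exact absurd h (by simp [live22_12_196])

end CfsgLib.M24Order.E6
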