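import Cfsg.Agent.Lib.M24Order.Keys6P22_12

/-!
# Simple groups of order 244823040, `|N(P₇) : C(P₇)| = 6`: checks, segments, k = 12
-/

set_option autoImplicit false

namespace CfsgLib.M24Order.E6

set_option maxHeartbeats 0
set_option maxRecDepth 100000
set_option Elab.async false

theorem key22_12_15 : plans22_12_15.all (okPlan 22 12 tabS12 tabZ12) = true := by decide +kernel

theorem key22_12_16 : plans22_12_16.all (okPlan 22 12 tabS12 tabZ12) = true := by decide +kernel

theorem key22_12_17 : plans22_12_17.all (okPlan 22 12 tabS12 tabZ12) = true := by decide +kernel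

theorem key22_12_18 : plans22_12_18.all (okPlan 22 12 tabS12 tabZ12) = true := by decide +kernel

theorem key22_12_19 : plans22_12_19.all (okPlan 22 12 tabS12 tabZ12) = true := by decide +kernel


end CfsgLib.M24Order.E6
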