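import Cfsg.Agent.Lib.M24Order.K6.S22_12_0
import Cfsg.Agent.Lib.M24Order.K6.S22_12_1
import Cfsg.Agent.Lib.M24Order.K6.S22_12_2
import Cfsg.Agent.Lib.M24Order.K6.S22_12_3
import Cfsg.Agent.Lib.M24Order.K6.S22_12_4
import Cfsg.Agent.Lib.M24Order.K6.L22_12_15
import Cfsg.Agent.Lib.M24Order.K6.L22_12_22
import Cfsg.Agent.Lib.M24Order.K6.L22_12_29
import Cfsg.Agent.Lib.M24Order.K6.L22_12_32
import Cfsg.Agent.Lib.M24Order.K6.L22_12_33
import Cfsg.Agent.Lib.M24Order.K6.L22_12_63
import Cfsg.Agent.Lib.M24Order.K6.L22_12_69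
import Cfsg.Agent.Lib.M24Order.K6.L22_12_72
import Cfsg.Agent.Lib.M24Order.K6.L22_12_74
import Cfsg.Agent.Lib.M24Order.K6.L22_12_75
import Cfsg.Agent.Lib.M24Order.K6.L22_12_91
import Cfsg.Agent.Lib.M24Order.K6.L22_12_97
import Cfsg.Agent.Lib.M24Order.K6.L22_12_124
import Cfsg.Agent.Lib.M24Order.K6.L22_12_127
import Cfsg.Agent.Lib.M24Order.K6.L22_12_170
import Cfsg.Agent.Lib.M24Order.K6.L22_12_173
import Cfsg.Agent.Lib.M24Order.K6.L22_12_196
import Cfsg.Agent.Lib.M24Order.K6.L22_12_210
import Cfsg.Agent.Lib.M24Order.K6.L22_12_276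
import Cfsg.Agent.Lib.M24Order.Keys6Glue

/-!
# Simple groups of order 244823040, `|N(P₇) : C(P₇)| = 6`: checks, member of degree 22, k = 12
-/

set_option autoImplicit false

namespace CfsgLib.M24Order.E6

set_option maxHeartbeats 0
set_option maxRecDepth 100000
set_option Elab.async false

/-- The plans, with the list 22 replaced. -/
noncomputable def plans22_12b : List Plan :=
  plans22_12_0 ++
  [live22_12_15] ++
  plans22_12_1 ++
  [live22_12_22b] ++
  plans22_12_2 ++
  [live22_12_29] ++
  plans22_12_3 ++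
  [live22_12_32] ++
  [live22_12_33] ++
  plans22_12_4 ++
  plans22_12_5 ++
  [live22_12_63] ++
  plans22_12_6 ++
  [live22_12_69] ++
  plans22_12_7 ++
  [live22_12_72] ++
  plans22_12_8 ++
  [live22_12_74] ++
  [live22_12_75] ++
  plans22_12_9 ++
  [live22_12_91] ++
  plans22_12_10 ++
  [live22_12_97] ++
  plans22_12_11 ++
  [live22_12_124] ++
  plans22_12_12 ++
  [live22_12_127] ++
  plans22_12_13 ++
  plans22_12_14 ++
  [live22_12_170] ++
  plans22_12_15 ++
  [live22_12_173] ++
  plans22_12_16 ++
  [live22_12_196] ++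
  plans22_12_17 ++
  [live22_12_210] ++
  plans22_12_18 ++
  plans22_12_19 ++
  plans22_12_20 ++
  [live22_12_276] ++
  plans22_12_21 ++
  plans22_12_22

theorem plans22_12_base : (plans22_12b.map Plan.base == canon22) = true := by decide +kernel

theorem plans22_12_perm : (plans22_12b.all fun P => P.es.isPerm P.base) = true := by decide +kernel

theorem plans22_12_ok : plans22_12b.all (okPlan 22 12 tabS12 tabZ12) = true := by
  unfold plans22_12b
  exact (all_app (all_app (all_app (all_app (all_app (all_app (all_app (all_app (all_app (all_app (all_app (all_app (all_app (all_app (all_app (all_app (all_app (all_app (all_app (all_app (all_app (all_app (all_app (all_app (all_app (all_app (all_app (all_app (all_app (all_app (all_app (all_app (all_app (all_app (all_app (all_app (all_app (all_app (all_app (all_app (all_app key22_12_0 (all_one live22_12_15_ok)) key22_12_1) (all_one live22_12_22b_ok)) key22_12_2) (all_one live22_12_29_ok)) key22_12_3) (all_one live22_12_32_ok)) (all_one live22_12_33_ok)) key22_12_4) key22_12_5)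 (all_one live22_12_63_ok)) key22_12_6) (all_one live22_12_69_ok)) key22_12_7) (all_one live22_12_72_ok)) key22_12_8) (all_one live22_12_74_ok)) (all_one live22_12_75_ok)) key22_12_9) (all_one live22_12_91_ok)) key22_12_10) (all_one live22_12_97_ok)) key22_12_11) (all_one live22_12_124_ok)) key22_12_12) (all_one live22_12_127_ok)) key22_12_13) key22_12_14) (all_one live22_12_170_ok)) key22_12_15) (all_one live22_12_173_ok)) key22_12_16) (all_one live22_12_196_ok)) key22_12_17) (all_one live22_12_210_ok)) key22_12_18) key22_12_19) key22_12_20) (all_one live22_12_276_ok)) key22_12_21) key22_12_22)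

end CfsgLib.M24Order.E6
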