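import Cfsg.Agent.Lib.M24Order.Keys6P22_192
import Cfsg.Agent.Lib.M24Order.Keys6Glue22

/-!
# Simple groups of order 244823040, `|N(P₇) : C(P₇)| = 6`: checks, list 30, k = 192
-/

set_option autoImplicit false

namespace CfsgLib.M24Order.E6

set_option maxHeartbeats 0
set_option maxRecDepth 100000
set_option Elab.async false

theorem dead192_30_0 : deadS live22_192_30.es (decS 2560 604458874586996270432267 803414618538525155807246735701207311385260583751067386773495) = true := by decide +kernel

theorem dead192_30_1 : deadS live22_192_30.es (decS 3840 604435816112923668381687 803506568241747054091411564203267021444951607994686212931575) = true := by decide +kernel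

theorem dead192_30_2 : deadS live22_192_30.es (decS 7680 604528049877272723193847 803414618538525155807246735701207311385260583751067386773495) = true := by decide +kernel

theorem s192_30_1_0 : okS2 192 tabS192 live22_192_30 (live22_192_30.ks.getD 1 (deadK 0)) [decS 2560 604458874586996270432267 803414618538525155807246735701207311385260583751067386773495, decS 3840 604435816112923668381687 803506568241747054091411564203267021444951607994686212931575, decS 7680 604528049877272723193847 803414618538525155807246735701207311385260583751067386773495] [20,140,60,420,180,1260,540,3780,40,280,120,840,360,2520,1080,7560,80,560,240,1680,720,5040,2160,15120,160,1120,480,3360,1440,10080,4320,30240,320,2240,960,6720,2880,20160,8640,60480,640,4480,1920,13440,5760,40320,17280,120960,1280,8960,3840,26880,11520,80640,34560,241920,2560,17920,7680,53760,23040,161280,69120,483840,5120,35840,15360,107520,46080,322560,138240,967680] = true := by decide +kernel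

theorem z192_30_0 : okZ2 192 tabZ192 live22_192_30 (live22_192_30.ks.getD 1 (deadK 0)) [28,140,84,420,252,1260,756,3780,56,280,168,840,504,2520,1512,7560,112,560,336,1680,1008,5040,3024,15120,224,1120,672,3360,2016,10080,6048,30240,448,2240,1344,6720,4032,20160,12096,60480,896,4480,2688,13440,8064,40320,24192,120960,1792,8960,5376,26880,16128,80640,48384,241920,3584,17920,10752,53760,32256,161280,96768,483840,7168,35840,21504,107520,64512,322560,193536,967680] = true := by decide +kernel

theorem y192_30 : okY 192 live22_192_30 = true := by decide +kernel

theorem w192_30 : live22_192_30.ks.all (okW 22 192 live22_192_30) = true := by decide +kernel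

theorem m192_30 : live22_192_30.ks.all (okM live22_192_30) = true := by decide +kernel

theorem ks192_30 : live22_192_30.ks.map KP.k7 = [192, 24, 3] := by decide +kernel

theorem live22_192_30_ok : okPlan 22 192 tabS192 tabZ192 live22_192_30 = true := by
  refine okPlan_of22 [decS 2560 604458874586996270432267 803414618538525155807246735701207311385260583751067386773495, decS 3840 604435816112923668381687 803506568241747054091411564203267021444951607994686212931575, decS 7680 604528049877272723193847 803414618538525155807246735701207311385260583751067386773495] ks192_30 y192_30 w192_30 ?_ ?_ ?_ m192_30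
  · intro K hK
    obtain ⟨j, hj, rfl⟩ := List.getElem_of_mem hK
    match j, hj with
    | 0, _ => exact Or.inl rfl
    | 1, _ => exact Or.inr (okS1_of (Cs := [[20,140,60,420,180,1260,540,3780,40,280,120,840,360,2520,1080,7560,80,560,240,1680,720,5040,2160,15120,160,1120,480,3360,1440,10080,4320,30240,320,2240,960,6720,2880,20160,8640,60480,640,4480,1920,13440,5760,40320,17280,120960,1280,8960,3840,26880,11520,80640,34560,241920,2560,17920,7680,53760,23040,161280,69120,483840,5120,35840,15360,107520,46080,322560,138240,967680]]) (by decide +kernel) (by
      intro l hl
      simp only [List.mem_cons, List.not_mem_nil, or_false] at hl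
      rcases hl with rfl
      exacts [s192_30_1_0]))
    | 2, _ => exact Or.inl rfl
    | n + 3, h => exact absurd h (by simp [live22_192_30])
  · intro s hs
    simp only [List.mem_cons, List.not_mem_nil, or_false] at hs
    rcases hs with rfl | rfl | rfl
    exacts [dead192_30_0, dead192_30_1, dead192_30_2]
  · intro K hK
    obtain ⟨j, hj, rfl⟩ := List.getElem_of_mem hK
    match j, hj with
    | 0, _ => rfl
    | 1, _ => exact okZ_of (Cs := [[28,140,84,420,252,1260,756,3780,56,280,168,840,504,2520,1512,7560,112,560,336,1680,1008,5040,3024,15120,224,1120,672,3360,2016,10080,6048,30240,448,2240,1344,6720,4032,20160,12096,60480,896,4480,2688,13440,8064,40320,24192,120960,1792,8960,5376,26880,16128,80640,48384,241920,3584,17920,10752,53760,32256,161280,96768,483840,7168,35840,21504,107520,64512,322560,193536,967680]]) (by simp) (by decide +kernel) (by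
      intro l hl
      simp only [List.mem_cons, List.not_mem_nil, or_false] at hl
      rcases hl with rfl
      exacts [z192_30_0])
    | 2, _ => rfl
    | n + 3, h => exact absurd h (by simp [live22_192_30])

end CfsgLib.M24Order.E6
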