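import Cfsg.Agent.Lib.M24Order.K6.S22_192_0
import Cfsg.Agent.Lib.M24Order.K6.S22_192_1
import Cfsg.Agent.Lib.M24Order.K6.S22_192_2
import Cfsg.Agent.Lib.M24Order.K6.S22_192_3
import Cfsg.Agent.Lib.M24Order.K6.L22_192_22
import Cfsg.Agent.Lib.M24Order.K6.L22_192_30
import Cfsg.Agent.Lib.M24Order.K6.L22_192_49
import Cfsg.Agent.Lib.M24Order.K6.L22_192_69
import Cfsg.Agent.Lib.M24Order.K6.L22_192_74
import Cfsg.Agent.Lib.M24Order.K6.L22_192_76
import Cfsg.Agent.Lib.M24Order.K6.L22_192_97
import Cfsg.Agent.Lib.M24Order.K6.L22_192_124
import Cfsg.Agent.Lib.M24Order.K6.L22_192_171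
import Cfsg.Agent.Lib.M24Order.Keys6Glue

/-!
# Simple groups of order 244823040, `|N(P₇) : C(P₇)| = 6`: checks, member of degree 22, k = 192
-/

set_option autoImplicit false

namespace CfsgLib.M24Order.E6

set_option maxHeartbeats 0
set_option maxRecDepth 100000
set_option Elab.async false

theorem plans22_192_base : (plans22_192.map Plan.base == canon22) = true := by decide +kernel

theorem plans22_192_perm : (plans22_192.all fun P => P.es.isPerm P.base) = true := by decide +kernel

theorem plans22_192_ok : plans22_192.all (okPlan 22 192 tabS192 tabZ192) = true := by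
  unfold plans22_192
  exact (all_app (all_app (all_app (all_app (all_app (all_app (all_app (all_app (all_app (all_app (all_app (all_app (all_app (all_app (all_app (all_app (all_app (all_app (all_app (all_app (all_app (all_app (all_app (all_app key22_192_0 (all_one live22_192_22_ok)) key22_192_1) (all_one live22_192_30_ok)) key22_192_2) (all_one live22_192_49_ok)) key22_192_3) (all_one live22_192_69_ok)) key22_192_4) (all_one live22_192_74_ok)) key22_192_5) (all_one live22_192_76_ok)) key22_192_6) (all_one live22_192_97_ok)) key22_192_7) (all_one live22_192_124_ok)) key22_192_8) key22_192_9) (all_one live22_192_171_ok)) key22_192_10) key22_192_11) key22_192_12) key22_192_13) key22_192_14) key22_192_15)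

end CfsgLib.M24Order.E6
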