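import Cfsg.Agent.Lib.M24Order.K6.S22_2_0

/-!
# Simple groups of order 244823040, `|N(P₇) : C(P₇)| = 6`: checks, member of degree 22, k = 2
-/

set_option autoImplicit false

namespace CfsgLib.M24Order.E6

set_option maxHeartbeats 0
set_option maxRecDepth 100000
set_option Elab.async false

theorem plans22_2_base : (plans22_2.map Plan.base == canon22) = true := by decide +kernel

theorem plans22_2_perm : (plans22_2.all fun P => P.es.isPerm P.base) = true := by decide +kernel

theorem plans22_2_ok : plans22_2.all (okPlan 22 2 tabS2 tabZ2) = true := by
  simp only [plans22_2, List.all_append, List.all_cons, List.all_nil, Bool.and_self, key22_2_0, key22_2_1, key22_2_2, key22_2_3, key22_2_4, key22_2_5, key22_2_6, key22_2_7, key22_2_8, key22_2_9, key22_2_10, key22_2_11]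

end CfsgLib.M24Order.E6
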