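import Cfsg.Agent.Lib.M24Order.K6.S22_32_0
import Cfsg.Agent.Lib.M24Order.K6.S22_32_1
import Cfsg.Agent.Lib.M24Order.K6.S22_32_2
import Cfsg.Agent.Lib.M24Order.K6.L22_32_50
import Cfsg.Agent.Lib.M24Order.K6.L22_32_69
import Cfsg.Agent.Lib.M24Order.K6.L22_32_70
import Cfsg.Agent.Lib.M24Order.K6.L22_32_76

/-!
# Simple groups of order 244823040, `|N(P₇) : C(P₇)| = 6`: checks, member of degree 22, k = 32
-/

set_option autoImplicit false

namespace CfsgLib.M24Order.E6

set_option maxHeartbeats 0
set_option maxRecDepth 100000
set_option Elab.async false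

theorem plans22_32_base : (plans22_32.map Plan.base == canon22) = true := by decide +kernel

theorem plans22_32_perm : (plans22_32.all fun P => P.es.isPerm P.base) = true := by decide +kernel

theorem plans22_32_ok : plans22_32.all (okPlan 22 32 tabS32 tabZ32) = true := by
  simp only [plans22_32, List.all_append, List.all_cons, List.all_nil, Bool.and_self, key22_32_0, key22_32_1, key22_32_2, key22_32_3, key22_32_4, key22_32_5, key22_32_6, key22_32_7, key22_32_8, key22_32_9, key22_32_10, key22_32_11, key22_32_12, key22_32_13, live22_32_50_ok, live22_32_69_ok, live22_32_70_ok, live22_32_76_ok]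

end CfsgLib.M24Order.E6
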