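import Cfsg.Agent.Lib.M24Order.Keys6P3520_12

/-!
# Simple groups of order 244823040, `|N(P₇) : C(P₇)| = 6`: list 113 for 3520, `|C(P₅) : P₅| = 12`, part 0
-/

set_option autoImplicit false
set_option maxHeartbeats 0
set_option maxRecDepth 100000
set_option Elab.async false

namespace CfsgLib.M24Order.E6

theorem live3520_12_113_dead0 : deadS live3520_12_113.es (decS 1920 604481932995098195787767 803482048342323221465909997484848695592784362683500895666181) = true := by decide +kernel

theorem live3520_12_113_dead1 : deadS live3520_12_113.es (decS 3840 604412757704821743026187 803482048342323221465909997484848695592784362683500895666181) = true := by decide +kernel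

theorem live3520_12_113_dead2 : deadS live3520_12_113.es (decS 3840 604504991469170797838347 803457528413669395120107762095693222401197582126514539331589) = true := by decide +kernel

end CfsgLib.M24Order.E6
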