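import Cfsg.Agent.Lib.M24Order.Keys6P3520_12
import Cfsg.Agent.Lib.M24Order.Keys6Glue

/-!
# Simple groups of order 244823040, `|N(P₇) : C(P₇)| = 6`: the block for `11` of list 313 for 3520, part M0
-/

set_option autoImplicit false
set_option maxHeartbeats 0
set_option maxRecDepth 100000
set_option Elab.async false

namespace CfsgLib.M24Order.E6

theorem live3520_12_313_M0 : okM live3520_12_313 { (live3520_12_313.ks.getD 0 (deadK 0)) with grp := ((live3520_12_313.ks.getD 0 (deadK 0)).grp.take 1) } = true := by
  decide +kernel

end CfsgLib.M24Order.E6
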