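import Cfsg.Agent.Lib.M24Order.Keys6P3520_12

/-!
# Simple groups of order 244823040, `|N(P₇) : C(P₇)| = 6`: the involution in `C(P₇)` for list 313 for 3520
-/

set_option autoImplicit false
set_option maxHeartbeats 0
set_option maxRecDepth 100000
set_option Elab.async false

namespace CfsgLib.M24Order.E6

theorem live3520_12_313_Z : live3520_12_313.ks.all (okZ 3520 12 tabZ12 live3520_12_313) = true := by decide +kernel

end CfsgLib.M24Order.E6
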