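import Cfsg.Agent.Lib.M24Order.Keys6Glue
import Cfsg.Agent.Lib.M24Order.Keys6P3520_12
import Cfsg.Agent.Lib.M24Order.K6.Dead3520_12_313_0
import Cfsg.Agent.Lib.M24Order.K6.Grp3520_12_313_M0
import Cfsg.Agent.Lib.M24Order.K6.Grp3520_12_313_M1a
import Cfsg.Agent.Lib.M24Order.K6.Grp3520_12_313_M1b
import Cfsg.Agent.Lib.M24Order.K6.Grp3520_12_313_M2
import Cfsg.Agent.Lib.M24Order.K6.Grp3520_12_313_M3
import Cfsg.Agent.Lib.M24Order.K6.OkZ3520_12_313

/-!
# Simple groups of order 244823040, `|N(P₇) : C(P₇)| = 6`: list 313 for 3520, `|C(P₅) : P₅| = 12`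
-/

set_option autoImplicit false
set_option maxHeartbeats 0
set_option maxRecDepth 100000
set_option Elab.async false

namespace CfsgLib.M24Order.E6

theorem live3520_12_313_M : live3520_12_313.ks.all (okM live3520_12_313) = true := by
  have h1 := okM_split live3520_12_313_M1a live3520_12_313_M1b
  rw [List.take_append_drop, Prod.mk.eta] at h1
  have h := okM_append (okM_append (okM_append live3520_12_313_M0 h1) live3520_12_313_M2) live3520_12_313_M3
  have e : (live3520_12_313.ks.getD 0 (deadK 0)).grp.take 1 ++ [((live3520_12_313.ks.getD 0 (deadK 0)).grp.getD 1 (⟨0, ⟨0, 0, 0, 0⟩, []⟩, []))] ++ ((live3520_12_313.ks.getD 0 (deadK 0)).grp.drop 2).take 1 ++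
      (live3520_12_313.ks.getD 0 (deadK 0)).grp.drop 3 = (live3520_12_313.ks.getD 0 (deadK 0)).grp := by decide +kernel
  rw [e] at h
  have e2 : live3520_12_313.ks = [(live3520_12_313.ks.getD 0 (deadK 0)), deadK 3] := rfl
  rw [e2]
  simp only [List.all_cons, List.all_nil, Bool.and_true, Bool.and_eq_true]
  exact ⟨h, rfl⟩

theorem live3520_12_313_ok : okPlan 3520 12 tabS12 tabZ12 live3520_12_313 = true := by
  refine okPlan_of ([(decS 1920 604481932995098195787767 803469788377996299930217467284254599770215427073783506665472),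
    (decS 7680 604389699296719817670687 803457528425361413793918688172697118783197571392611012837376)] : List Sol)
    (by decide +kernel) (by decide +kernel) (by decide +kernel) (by decide +kernel) ?_ live3520_12_313_Z
    live3520_12_313_M
  intro s hs
  simp only [List.mem_cons, List.not_mem_nil, or_false] at hs
  rcases hs with rfl | rfl
  · exact live3520_12_313_dead0
  · exact live3520_12_313_dead1

end CfsgLib.M24Order.E6
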