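import Cfsg.Agent.Lib.M24Order.Keys6P3520_12

/-!
# Simple groups of order 244823040, `|N(P₇) : C(P₇)| = 6`: list 314 for 3520, `|C(P₅) : P₅| = 12`, part 0
-/

set_option autoImplicit false
set_option maxHeartbeats 0
set_option maxRecDepth 100000
set_option Elab.async false

namespace CfsgLib.M24Order.E6

theorem live3520_12_314_dead0 : deadS live3520_12_314.es (decS 5760 604504991469170797838347 803451398418352400103153254281733508419446810888292113317888) = true := by decide +kernel

end CfsgLib.M24Order.E6
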