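import Cfsg.Agent.Lib.M24Order.Keys6P3520_12

/-!
# Simple groups of order 244823040, `|N(P₇) : C(P₇)| = 6`: list 53 for 3520, `|C(P₅) : P₅| = 12`, part 4
-/

set_option autoImplicit false
set_option maxHeartbeats 0
set_option maxRecDepth 100000
set_option Elab.async false

namespace CfsgLib.M24Order.E6

theorem live3520_12_53_dead12 : deadS live3520_12_53.es (decS 23040 604504991469170797838347 803488178271872653953362423989777085287361091257208127619072) = true := by decide +kernel

theorem live3520_12_53_dead13 : deadS live3520_12_53.es (decS 23040 604366640756676538925027 803488178359562696441327018195524623093584314674454708355072) = true := by decide +kernel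

end CfsgLib.M24Order.E6
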