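import Cfsg.Agent.Lib.M24Order.Keys6Glue
import Cfsg.Agent.Lib.M24Order.Keys6P3520_12
import Cfsg.Agent.Lib.M24Order.K6.Dead3520_12_53_0
import Cfsg.Agent.Lib.M24Order.K6.Dead3520_12_53_1
import Cfsg.Agent.Lib.M24Order.K6.Dead3520_12_53_2
import Cfsg.Agent.Lib.M24Order.K6.Dead3520_12_53_3
import Cfsg.Agent.Lib.M24Order.K6.Dead3520_12_53_4

/-!
# Simple groups of order 244823040, `|N(P₇) : C(P₇)| = 6`: list 53 for 3520, `|C(P₅) : P₅| = 12`
-/

set_option autoImplicit false
set_option maxHeartbeats 0
set_option maxRecDepth 100000
set_option Elab.async false

namespace CfsgLib.M24Order.E6

theorem live3520_12_53_ok : okPlan 3520 12 tabS12 tabZ12 live3520_12_53 = true := by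
  refine okPlan_of ([(decS 960 604458874586996270432267 803457528413669395120107762099496154859092214927029990588416),
    (decS 1920 604458874586996270432267 803469788366304337008285488263419689366912645524176899670016),
    (decS 1920 604458874586996270432267 803439138449640984805836626937008562102758178079706643431424),
    (decS 5760 604504991469170797838347 803488178324486657145438517248043998352061062972339711901696),
    (decS 5760 604435816112923668381687 803488178359562696441380187290003022231031879244426672340992),
    (decS 5760 604435816112923668381687 803469788413072389402874381656078789472864870275147280941056),
    (decS 3840 604412757704821743026187 803451398443197944663348136611862123364897602402361820053504),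
    (decS 3840 604412757704821743026187 803482048342323221465936582053637919097620373884083232047104),
    (decS 11520 604504991469170797838347 803469788430610381174966887585440079751024100135661554106368),
    (decS 11520 604504991469170797838347 803451398484119990508640002861198587394796826158133705965568),
    (decS 7680 604504991469170797838347 803469788342920227183223131606745437631293361194196229685248),
    (decS 23040 604504991469170797838347 803469788430610381174966887585440079751024100135661554106368),
    (decS 23040 604504991469170797838347 803488178271872653953362423989777085287361091257208127619072),
    (decS 23040 604366640756676538925027 803488178359562696441327018195524623093584314674454708355072)] : List Sol)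
    (by decide +kernel) (by decide +kernel) (by decide +kernel) (by decide +kernel) ?_ (by decide +kernel)
    (by decide +kernel)
  intro s hs
  simp only [List.mem_cons, List.not_mem_nil, or_false] at hs
  rcases hs with rfl | rfl | rfl | rfl | rfl | rfl | rfl | rfl | rfl | rfl | rfl | rfl | rfl | rfl
  · exact live3520_12_53_dead0
  · exact live3520_12_53_dead1
  · exact live3520_12_53_dead2
  · exact live3520_12_53_dead3
  · exact live3520_12_53_dead4
  · exact live3520_12_53_dead5
  · exact live3520_12_53_dead6
  · exact live3520_12_53_dead7
  · exact live3520_12_53_dead8
  · exact live3520_12_53_dead9
  · exact live3520_12_53_dead10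
  · exact live3520_12_53_dead11
  · exact live3520_12_53_dead12
  · exact live3520_12_53_dead13

end CfsgLib.M24Order.E6
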