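import Cfsg.Agent.Lib.M24Order.Keys6Glue
import Cfsg.Agent.Lib.M24Order.Keys6P3520_12
import Cfsg.Agent.Lib.M24Order.K6.Dead3520_12_56_0

/-!
# Simple groups of order 244823040, `|N(P₇) : C(P₇)| = 6`: list 56 for 3520, `|C(P₅) : P₅| = 12`
-/

set_option autoImplicit false
set_option maxHeartbeats 0
set_option maxRecDepth 100000
set_option Elab.async false

namespace CfsgLib.M24Order.E6

theorem live3520_12_56_ok : okPlan 3520 12 tabS12 tabZ12 live3520_12_56 = true := by
  refine okPlan_of ([(decS 5760 604435816178894345076767 803445268449342468009250199900234728896730371463185533763584),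
    (decS 5760 604504991469170797838347 803445268449342468009250199900234728896730371463185533763584)] : List Sol)
    (by decide +kernel) (by decide +kernel) (by decide +kernel) (by decide +kernel) ?_ (by decide +kernel)
    (by decide +kernel)
  intro s hs
  simp only [List.mem_cons, List.not_mem_nil, or_false] at hs
  rcases hs with rfl | rfl
  · exact live3520_12_56_dead0
  · exact live3520_12_56_dead1

end CfsgLib.M24Order.E6
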