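import Cfsg.Agent.Lib.M24Order.Keys6P3520_12

/-!
# Simple groups of order 244823040, `|N(P₇) : C(P₇)| = 6`: list 74 for 3520, `|C(P₅) : P₅| = 12`, part 0
-/

set_option autoImplicit false
set_option maxHeartbeats 0
set_option maxRecDepth 100000
set_option Elab.async false

namespace CfsgLib.M24Order.E6

theorem live3520_12_74_dead0 : deadS live3520_12_74.es (decS 2880 604435816112923668381687 803439138461333007661063862298420005511530777194453271052288) = true := by decide +kernel

theorem live3520_12_74_dead1 : deadS live3520_12_74.es (decS 5760 604504991469170797838347 803494308330034217981753170036965624130177567386320681566208) = true := by decide +kernel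

theorem live3520_12_74_dead2 : deadS live3520_12_74.es (decS 5760 604435816178894345076767 803420748567456692664229649150058060262873712376807147700224) = true := by decide +kernel

end CfsgLib.M24Order.E6
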