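import Cfsg.Agent.Lib.M24Order.Keys6Glue
import Cfsg.Agent.Lib.M24Order.Keys6P3520_12
import Cfsg.Agent.Lib.M24Order.K6.Dead3520_12_74_0
import Cfsg.Agent.Lib.M24Order.K6.Dead3520_12_74_1
import Cfsg.Agent.Lib.M24Order.K6.Dead3520_12_74_2

/-!
# Simple groups of order 244823040, `|N(P₇) : C(P₇)| = 6`: list 74 for 3520, `|C(P₅) : P₅| = 12`
-/

set_option autoImplicit false
set_option maxHeartbeats 0
set_option maxRecDepth 100000
set_option Elab.async false

namespace CfsgLib.M24Order.E6

theorem live3520_12_74_ok : okPlan 3520 12 tabS12 tabZ12 live3520_12_74 = true := by
  refine okPlan_of ([(decS 2880 604435816112923668381687 803439138461333007661063862298420005511530777194453271052288),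
    (decS 5760 604504991469170797838347 803494308330034217981753170036965624130177567386320681566208),
    (decS 5760 604435816178894345076767 803420748567456692664229649150058060262873712376807147700224),
    (decS 5760 604435816112923668381687 803500438329735712335561939206081864112853184186131587530752),
    (decS 5760 604435816112923668381687 803402358544968172255210732529961779347476501866850896314368),
    (decS 3840 604412757704821743026187 803433008496707563753601263923685019866488004239885769113600),
    (decS 3840 604504991469170797838347 803457528448745438597443144524581367772633083457761840726016),
    (decS 23040 604504991469170797838347 803506568306053169341661127087268266068457523804234781818880),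
    (decS 23040 604504991469170797838347 803457528401977397353221533500462534988025250115865432031232)] : List Sol)
    (by decide +kernel) (by decide +kernel) (by decide +kernel) (by decide +kernel) ?_ (by decide +kernel)
    (by decide +kernel)
  intro s hs
  simp only [List.mem_cons, List.not_mem_nil, or_false] at hs
  rcases hs with rfl | rfl | rfl | rfl | rfl | rfl | rfl | rfl | rfl
  · exact live3520_12_74_dead0
  · exact live3520_12_74_dead1
  · exact live3520_12_74_dead2
  · exact live3520_12_74_dead3
  · exact live3520_12_74_dead4
  · exact live3520_12_74_dead5
  · exact live3520_12_74_dead6
  · exact live3520_12_74_dead7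
  · exact live3520_12_74_dead8

end CfsgLib.M24Order.E6
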