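import Cfsg.Agent.Lib.M24Order.Keys6P3520_12

/-!
# Simple groups of order 244823040, `|N(P₇) : C(P₇)| = 6`: the lists without solutions for 3520, `|C(P₅) : P₅| = 12`, part 3
-/

set_option autoImplicit false
set_option maxHeartbeats 0
set_option maxRecDepth 100000
set_option Elab.async false

namespace CfsgLib.M24Order.E6

theorem plans3520_12_12_ok : plans3520_12_12.all (okPlan 3520 12 tabS12 tabZ12) = true := by decide +kernel

theorem plans3520_12_13_ok : plans3520_12_13.all (okPlan 3520 12 tabS12 tabZ12) = true := by decide +kernel

theorem plans3520_12_14_ok : plans3520_12_14.all (okPlan 3520 12 tabS12 tabZ12) = true := by decide +kernel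

theorem plans3520_12_15_ok : plans3520_12_15.all (okPlan 3520 12 tabS12 tabZ12) = true := by decide +kernel

end CfsgLib.M24Order.E6
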