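import Cfsg.Agent.Lib.M24Order.Keys6Glue
import Cfsg.Agent.Lib.M24Order.K6.Seg3520_12_0
import Cfsg.Agent.Lib.M24Order.K6.Seg3520_12_1
import Cfsg.Agent.Lib.M24Order.K6.Seg3520_12_2
import Cfsg.Agent.Lib.M24Order.K6.Seg3520_12_3
import Cfsg.Agent.Lib.M24Order.K6.Seg3520_12_4
import Cfsg.Agent.Lib.M24Order.K6.Live3520_12_53
import Cfsg.Agent.Lib.M24Order.K6.Live3520_12_56
import Cfsg.Agent.Lib.M24Order.K6.Live3520_12_74
import Cfsg.Agent.Lib.M24Order.K6.Live3520_12_113
import Cfsg.Agent.Lib.M24Order.K6.Live3520_12_144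
import Cfsg.Agent.Lib.M24Order.K6.Live3520_12_313
import Cfsg.Agent.Lib.M24Order.K6.Live3520_12_314

/-!
# Simple groups of order 244823040, `|N(P₇) : C(P₇)| = 6`: all lists for 3520, `|C(P₅) : P₅| = 12`
-/

set_option autoImplicit false
set_option maxHeartbeats 0
set_option maxRecDepth 100000
set_option Elab.async false

namespace CfsgLib.M24Order.E6

/-- All lists for 3520 pass at `|C(P₅) : P₅| = 12`. -/
theorem plans3520_12_ok : ∀ P ∈ plans3520_12, okPlan 3520 12 tabS12 tabZ12 P = true := by
  rw [← List.all_eq_true]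
  unfold plans3520_12
  exact (all_app (all_app (all_app (all_app (all_app (all_app (all_app (all_app (all_app (all_app (all_app (all_app (all_app (all_app (all_app (all_app (all_app (all_app (all_app (all_app (all_app (all_app (all_app (all_app (all_app plans3520_12_0_ok plans3520_12_1_ok) (all_one live3520_12_53_ok)) plans3520_12_2_ok) (all_one live3520_12_56_ok)) plans3520_12_3_ok) (all_one live3520_12_74_ok)) plans3520_12_4_ok) plans3520_12_5_ok) (all_one live3520_12_113_ok)) plans3520_12_6_ok) plans3520_12_7_ok) (all_one live3520_12_144_ok)) plans3520_12_8_ok) plans3520_12_9_ok) plans3520_12_10_ok) plans3520_12_11_ok) plans3520_12_12_ok) plans3520_12_13_ok) plans3520_12_14_ok) (all_one live3520_12_313_ok)) (all_one live3520_12_314_ok)) plans3520_12_15_ok) plans3520_12_16_ok) plans3520_12_17_ok) plans3520_12_18_ok)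

theorem plans3520_12_perm : ∀ P ∈ plans3520_12, P.es.Perm P.base := by
  have h : (plans3520_12.all fun P => P.es.isPerm P.base) = true := by decide +kernel
  exact fun P hP => List.isPerm_iff.mp (List.all_eq_true.mp h P hP)

end CfsgLib.M24Order.E6
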