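import Cfsg.Agent.Lib.M24Order.Keys6P3520_192

/-!
# Simple groups of order 244823040, `|N(P₇) : C(P₇)| = 6`: list 313 for 3520, `|C(P₅) : P₅| = 192`, part 0
-/

set_option autoImplicit false
set_option maxHeartbeats 0
set_option maxRecDepth 100000
set_option Elab.async false

namespace CfsgLib.M24Order.E6

theorem live3520_192_313_dead0 : deadS live3520_192_313.es (decS 960 604458874586996270432267 803457528425361424944323188930189937135658069510185745383424) = true := by decide +kernel

theorem live3520_192_313_dead1 : deadS live3520_192_313.es (decS 1920 604481932995098195787767 803445268425958441811934485581325588673068996938203906179072) = true := by decide +kernel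

end CfsgLib.M24Order.E6
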