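import Cfsg.Agent.Lib.M24Order.Keys6Glue
import Cfsg.Agent.Lib.M24Order.Keys6P3520_192
import Cfsg.Agent.Lib.M24Order.K6.Dead3520_192_313_0

/-!
# Simple groups of order 244823040, `|N(P₇) : C(P₇)| = 6`: list 313 for 3520, `|C(P₅) : P₅| = 192`
-/

set_option autoImplicit false
set_option maxHeartbeats 0
set_option maxRecDepth 100000
set_option Elab.async false

namespace CfsgLib.M24Order.E6

theorem live3520_192_313_ok : okPlan 3520 192 tabS192 tabZ192 live3520_192_313 = true := by
  refine okPlan_of ([(decS 960 604458874586996270432267 803457528425361424944323188930189937135658069510185745383424),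
    (decS 1920 604481932995098195787767 803445268425958441811934485581325588673068996938203906179072)] : List Sol)
    (by decide +kernel) (by decide +kernel) (by decide +kernel) (by decide +kernel) ?_ (by decide +kernel)
    (by decide +kernel)
  intro s hs
  simp only [List.mem_cons, List.not_mem_nil, or_false] at hs
  rcases hs with rfl | rfl
  · exact live3520_192_313_dead0
  · exact live3520_192_313_dead1

end CfsgLib.M24Order.E6
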