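import Cfsg.Agent.Lib.M24Order.Keys6Glue
import Cfsg.Agent.Lib.M24Order.K6.Seg3520_192_0
import Cfsg.Agent.Lib.M24Order.K6.Seg3520_192_1
import Cfsg.Agent.Lib.M24Order.K6.Seg3520_192_2
import Cfsg.Agent.Lib.M24Order.K6.Seg3520_192_3
import Cfsg.Agent.Lib.M24Order.K6.Live3520_192_313

/-!
# Simple groups of order 244823040, `|N(P₇) : C(P₇)| = 6`: all lists for 3520, `|C(P₅) : P₅| = 192`
-/

set_option autoImplicit false
set_option maxHeartbeats 0
set_option maxRecDepth 100000
set_option Elab.async false

namespace CfsgLib.M24Order.E6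

/-- All lists for 3520 pass at `|C(P₅) : P₅| = 192`. -/
theorem plans3520_192_ok : ∀ P ∈ plans3520_192, okPlan 3520 192 tabS192 tabZ192 P = true := by
  rw [← List.all_eq_true]
  unfold plans3520_192
  exact (all_app (all_app (all_app (all_app (all_app (all_app (all_app (all_app (all_app (all_app (all_app (all_app (all_app (all_app (all_app (all_app plans3520_192_0_ok plans3520_192_1_ok) plans3520_192_2_ok) plans3520_192_3_ok) plans3520_192_4_ok) plans3520_192_5_ok) plans3520_192_6_ok) plans3520_192_7_ok) plans3520_192_8_ok) plans3520_192_9_ok) plans3520_192_10_ok) plans3520_192_11_ok) (all_one live3520_192_313_ok)) plans3520_192_12_ok) plans3520_192_13_ok) plans3520_192_14_ok) plans3520_192_15_ok)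

theorem plans3520_192_perm : ∀ P ∈ plans3520_192, P.es.Perm P.base := by
  have h : (plans3520_192.all fun P => P.es.isPerm P.base) = true := by decide +kernel
  exact fun P hP => List.isPerm_iff.mp (List.all_eq_true.mp h P hP)

end CfsgLib.M24Order.E6
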