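import Cfsg.Agent.Lib.M24Order.Keys6P3520_2

/-!
# Simple groups of order 244823040, `|N(P₇) : C(P₇)| = 6`: the lists without solutions for 3520, `|C(P₅) : P₅| = 2`, part 1
-/

set_option autoImplicit false
set_option maxHeartbeats 0
set_option maxRecDepth 100000
set_option Elab.async false

namespace CfsgLib.M24Order.E6

theorem plans3520_2_4_ok : plans3520_2_4.all (okPlan 3520 2 tabS2 tabZ2) = true := by decide +kernel

theorem plans3520_2_5_ok : plans3520_2_5.all (okPlan 3520 2 tabS2 tabZ2) = true := by decide +kernel

theorem plans3520_2_6_ok : plans3520_2_6.all (okPlan 3520 2 tabS2 tabZ2) = true := by decide +kernel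

theorem plans3520_2_7_ok : plans3520_2_7.all (okPlan 3520 2 tabS2 tabZ2) = true := by decide +kernel

end CfsgLib.M24Order.E6
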