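import Cfsg.Agent.Lib.M24Order.Keys6Glue
import Cfsg.Agent.Lib.M24Order.K6.Seg3520_2_0
import Cfsg.Agent.Lib.M24Order.K6.Seg3520_2_1
import Cfsg.Agent.Lib.M24Order.K6.Seg3520_2_2
import Cfsg.Agent.Lib.M24Order.K6.Seg3520_2_3

/-!
# Simple groups of order 244823040, `|N(P₇) : C(P₇)| = 6`: all lists for 3520, `|C(P₅) : P₅| = 2`
-/

set_option autoImplicit false
set_option maxHeartbeats 0
set_option maxRecDepth 100000
set_option Elab.async false

namespace CfsgLib.M24Order.E6

/-- All lists for 3520 pass at `|C(P₅) : P₅| = 2`. -/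
theorem plans3520_2_ok : ∀ P ∈ plans3520_2, okPlan 3520 2 tabS2 tabZ2 P = true := by
  rw [← List.all_eq_true]
  unfold plans3520_2
  exact (all_app (all_app (all_app (all_app (all_app (all_app (all_app (all_app (all_app (all_app (all_app (all_app (all_app (all_app plans3520_2_0_ok plans3520_2_1_ok) plans3520_2_2_ok) plans3520_2_3_ok) plans3520_2_4_ok) plans3520_2_5_ok) plans3520_2_6_ok) plans3520_2_7_ok) plans3520_2_8_ok) plans3520_2_9_ok) plans3520_2_10_ok) plans3520_2_11_ok) plans3520_2_12_ok) plans3520_2_13_ok) plans3520_2_14_ok)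

theorem plans3520_2_perm : ∀ P ∈ plans3520_2, P.es.Perm P.base := by
  have h : (plans3520_2.all fun P => P.es.isPerm P.base) = true := by decide +kernel
  exact fun P hP => List.isPerm_iff.mp (List.all_eq_true.mp h P hP)

end CfsgLib.M24Order.E6
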