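import Cfsg.Agent.Lib.M24Order.Keys6P3520_192
import Cfsg.Agent.Lib.M24Order.Keys6P3520_32
import Cfsg.Agent.Lib.M24Order.Keys6P3520_12
import Cfsg.Agent.Lib.M24Order.Keys6P3520_2

/-!
# Simple groups of order 244823040, `|N(P₇) : C(P₇)| = 6`: the plans for 3520 cover the lists
-/

set_option autoImplicit false
set_option maxHeartbeats 0
set_option maxRecDepth 100000
set_option Elab.async false

namespace CfsgLib.M24Order.E6

theorem plans3520_192_base : plans3520_192.map Plan.base = canonK3520.map (mkT · 9) := by decide +kernel

theorem plans3520_32_base : plans3520_32.map Plan.base = canonK3520.map (mkT · 9) := by decide +kernel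

theorem plans3520_12_base : plans3520_12.map Plan.base = canonK3520.map (mkT · 9) := by decide +kernel

theorem plans3520_2_base : plans3520_2.map Plan.base = canonK3520.map (mkT · 9) := by decide +kernel

end CfsgLib.M24Order.E6
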