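import Cfsg.Agent.Lib.M24Order.Keys6Data

/-!
# Simple groups of order 244823040, `|N(P₇) : C(P₇)| = 6`: the table at the involution in `C(P₇)`, 12
-/

set_option autoImplicit false
set_option maxHeartbeats 0
set_option maxRecDepth 100000
set_option Elab.async false

namespace CfsgLib.M24Order.E6

theorem tups_12_Z : checkTups 12 false 7 tabZ12 = true := by decide +kernel

end CfsgLib.M24Order.E6
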