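import Cfsg.Agent.Lib.M24Order.E6.Reduce
import Cfsg.Agent.Lib.M24Order.K6.Base3520
import Cfsg.Agent.Lib.M24Order.K6.All3520_192
import Cfsg.Agent.Lib.M24Order.K6.Tup192S
import Cfsg.Agent.Lib.M24Order.K6.Tup192Z
import Cfsg.Agent.Lib.M24Order.K6.All3520_32
import Cfsg.Agent.Lib.M24Order.K6.Tup32S
import Cfsg.Agent.Lib.M24Order.K6.Tup32Z
import Cfsg.Agent.Lib.M24Order.K6.All3520_12
import Cfsg.Agent.Lib.M24Order.K6.Tup12S
import Cfsg.Agent.Lib.M24Order.K6.Tup12Z
import Cfsg.Agent.Lib.M24Order.K6.All3520_2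
import Cfsg.Agent.Lib.M24Order.K6.Tup2S
import Cfsg.Agent.Lib.M24Order.K6.Tup2Z

/-!
# Simple groups of order 244823040, `|N(P₇) : C(P₇)| = 6`: the cases for 3520
-/

set_option autoImplicit false
set_option maxRecDepth 100000

namespace CfsgLib.M24Order.E6

theorem covers {plans : List Plan} {canon : List ℕ} (h : plans.map Plan.base = canon.map (mkT · 9)) :
    ∀ e ∈ canon.map (mkT · 9), ∃ P ∈ plans, P.base = e := fun _ he => List.mem_map.mp (h ▸ he)

/-- The cases for 3520, once the lists are complete. -/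
theorem cases3520 (hl : checkLists 3520 canonK3520 = true) : ∀ k5 ∈ ks5, CaseOK 3520 k5 := by
  intro k5 hk
  simp only [ks5, List.mem_cons, List.not_mem_nil, or_false] at hk
  rcases hk with rfl | rfl | rfl | rfl
  · exact ⟨canonK3520, tabS192, tabZ192, plans3520_192, hl, tups_192_S, tups_192_Z, covers plans3520_192_base, plans3520_192_perm, plans3520_192_ok⟩
  · exact ⟨canonK3520, tabS32, tabZ32, plans3520_32, hl, tups_32_S, tups_32_Z, covers plans3520_32_base, plans3520_32_perm, plans3520_32_ok⟩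
  · exact ⟨canonK3520, tabS12, tabZ12, plans3520_12, hl, tups_12_S, tups_12_Z, covers plans3520_12_base, plans3520_12_perm, plans3520_12_ok⟩
  · exact ⟨canonK3520, tabS2, tabZ2, plans3520_2, hl, tups_2_S, tups_2_Z, covers plans3520_2_base, plans3520_2_perm, plans3520_2_ok⟩

end CfsgLib.M24Order.E6
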