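import Cfsg.Agent.Lib.M24Order.E6.Reduce
import Cfsg.Agent.Lib.M24Order.K6.Cases3520
import Cfsg.Agent.Lib.M24Order.K6.All22_192
import Cfsg.Agent.Lib.M24Order.K6.All22_32
import Cfsg.Agent.Lib.M24Order.K6.All22_12
import Cfsg.Agent.Lib.M24Order.K6.All22_2
import Cfsg.Agent.Lib.M24Order.Keys6Lists

/-!
# Simple groups of order 244823040, `|N(P₇) : C(P₇)| = 6`: all cases
-/

set_option autoImplicit false
set_option maxRecDepth 100000

namespace CfsgLib.M24Order.E6

/-- One case, from its three checks. -/
theorem case22 {k5 : ℕ} {tabS tabZ : List (ℕ × T5)} {plans : List Plan}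
    (hS : checkTups k5 true 5 tabS = true) (hZ : checkTups k5 false 7 tabZ = true)
    (hb : (plans.map Plan.base == canon22) = true) (hp : (plans.all fun P => P.es.isPerm P.base) = true)
    (hok : plans.all (okPlan 22 k5 tabS tabZ) = true) : CaseOK 22 k5 :=
  ⟨canonK22, tabS, tabZ, plans, key_lists22, hS, hZ, covers (eq_of_beq hb),
    fun P hP => List.isPerm_iff.mp (List.all_eq_true.mp hp P hP), List.all_eq_true.mp hok⟩

/-- **All cases.** -/
theorem cases_all : ∀ com ∈ [22, 3520], ∀ k5 ∈ ks5, CaseOK com k5 := by
  intro com hc k5 hk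
  simp only [List.mem_cons, List.not_mem_nil, or_false] at hc
  rcases hc with rfl | rfl
  · simp only [ks5, List.mem_cons, List.not_mem_nil, or_false] at hk
    rcases hk with rfl | rfl | rfl | rfl
    · exact case22 tups_192_S tups_192_Z plans22_192_base plans22_192_perm plans22_192_ok
    · exact case22 tups_32_S tups_32_Z plans22_32_base plans22_32_perm plans22_32_ok
    · exact case22 tups_12_S tups_12_Z plans22_12_base plans22_12_perm plans22_12_ok
    · exact case22 tups_2_S tups_2_Z plans22_2_base plans22_2_perm plans22_2_ok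
  · exact cases3520 key_lists3520 k5 hk

end CfsgLib.M24Order.E6
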