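import Cfsg.Agent.Lib.M24Order.Keys6P22_12
import Cfsg.Agent.Lib.M24Order.Keys6Dead

/-!
# Simple groups of order 244823040, `|N(P₇) : C(P₇)| = 6`: checks, member of degree 22, k = 12, list 196, solution 4, part 1
-/

set_option autoImplicit false

namespace CfsgLib.M24Order.E6

set_option maxHeartbeats 0
set_option maxRecDepth 100000
set_option Elab.async false

theorem dead12_196_4_p2 : deadPart (fun ms => true && !(ms.count (-230) == 0) && (ms.count (-230) == 1)) live22_12_196.es (decS 23040 604366640756676538925027 803433008449939501602448309216966749769350613970264693145591) = true := by decide +kernel

theorem dead12_196_4_p3 : deadPart (fun ms => true && !(ms.count (-230) == 0) && !(ms.count (-230) == 1)) live22_12_196.es (decS 23040 604366640756676538925027 803433008449939501602448309216966749769350613970264693145591) = true := by decide +kernel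

end CfsgLib.M24Order.E6
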