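import Cfsg.Agent.Lib.M24Order.Keys6P22_12
import Cfsg.Agent.Lib.M24Order.Keys6Glue22

/-!
# Simple groups of order 244823040, `|N(P₇) : C(P₇)| = 6`: checks, solutions without values, k = 12, list 69
-/

set_option autoImplicit false

namespace CfsgLib.M24Order.E6

set_option maxHeartbeats 0
set_option maxRecDepth 100000
set_option Elab.async false

theorem dead12_69_0 : deadS live22_12_69.es (decS 1920 604458874586996270432267 803451398437351971565125042776107485160768490491251096289271) = true := by decide +kernel

theorem dead12_69_1 : deadS live22_12_69.es (decS 1920 604458874586996270432267 803463658413370911774639132897954166295986151305549735002103) = true := by decide +kernel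

theorem dead12_69_2 : deadS live22_12_69.es (decS 1920 604458874586996270432267 803433008479169551074602669622094222844736192713930505191415) = true := by decide +kernel

theorem dead12_69_3 : deadS live22_12_69.es (decS 1920 604458874586996270432267 803451398437351971565109092030016861368495479715062717349879) = true := by decide +kernel

theorem dead12_69_4 : deadS live22_12_69.es (decS 1920 604458874586996270432267 803463658413370911774639132892883563895082457075997823467511) = true := by decide +kernel

theorem dead12_69_5 : deadS live22_12_69.es (decS 3840 604435816112923668381687 803420748520688624937894382533968552315014663262248616067063) = true := by decide +kernel

theorem dead12_69_6 : deadS live22_12_69.es (decS 3840 604435816112923668381687 803433008461631537001839401884238368232882221184911917187063) = true := by decide +kernel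

theorem dead12_69_7 : deadS live22_12_69.es (decS 3840 604435816112923668381687 803433008449939490452074380737603574866633960337422867234807) = true := by decide +kernel

theorem dead12_69_8 : deadS live22_12_69.es (decS 3840 604504991469170797838347 803445268466880515533136582354881972752370202901779434700791) = true := by decide +kernel

theorem dead12_69_9 : deadS live22_12_69.es (decS 3840 604504991469170797838347 803469788383842367806611642568018491196824738185377841938423) = true := by decide +kernel


end CfsgLib.M24Order.E6
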