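import Cfsg.Agent.Lib.M24Order.Keys6P22_12
import Cfsg.Agent.Lib.M24Order.Keys6Glue22

/-!
# Simple groups of order 244823040, `|N(P₇) : C(P₇)| = 6`: checks, solutions without values, k = 12, list 69
-/

set_option autoImplicit false

namespace CfsgLib.M24Order.E6

set_option maxHeartbeats 0
set_option maxRecDepth 100000
set_option Elab.async false

theorem dead12_69_10 : deadS live22_12_69.es (decS 5760 604435816178894345076767 803451398431505970590971779984787324363455500336192872251383) = true := by decide +kernel

theorem dead12_69_11 : deadS live22_12_69.es (decS 5760 604435816178894345076767 803414618538525178108003897287595478635914706567249831395319) = true := by decide +kernel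

theorem dead12_69_12 : deadS live22_12_69.es (decS 5760 604435816178894345076767 803445268449342512610745913902620079169140137310527217467383) = true := by decide +kernel

theorem dead12_69_13 : deadS live22_12_69.es (decS 5760 604435816178894345076767 803469788407226416304667238551203021051042972862891696848887) = true := by decide +kernel

theorem dead12_69_14 : deadS live22_12_69.es (decS 5760 604435816112923668381687 803420748485612574491553528656641040041767905507159436689399) = true := by decide +kernel

theorem dead12_69_15 : deadS live22_12_69.es (decS 5760 604435816112923668381687 803433008508399589396422978369984950419078085519731639975927) = true := by decide +kernel

theorem dead12_69_16 : deadS live22_12_69.es (decS 5760 604435816112923668381687 803426878473622044596337158307903693332261589145232538599415) = true := by decide +kernel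

theorem dead12_69_17 : deadS live22_12_69.es (decS 5760 604435816112923668381687 803433008461631537001839401884238368232882221184911917187063) = true := by decide +kernel

theorem dead12_69_18 : deadS live22_12_69.es (decS 5760 604435816112923668381687 803414618538525155807279966425187305357828400313855344377847) = true := by decide +kernel

theorem dead12_69_19 : deadS live22_12_69.es (decS 5760 604435816112923668381687 803414618538525178108025164945669242091748507866353789042679) = true := by decide +kernel


end CfsgLib.M24Order.E6
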