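import Cfsg.Agent.Lib.M24Order.Keys6P22_12
import Cfsg.Agent.Lib.M24Order.Keys6Glue22

/-!
# Simple groups of order 244823040, `|N(P₇) : C(P₇)| = 6`: checks, solutions without values, k = 12, list 69
-/

set_option autoImplicit false

namespace CfsgLib.M24Order.E6

set_option maxHeartbeats 0
set_option maxRecDepth 100000
set_option Elab.async false

theorem dead12_69_20 : deadS live22_12_69.es (decS 5760 604435816112923668381687 803420748520688647238650214898699177979542001579065990447095) = true := by decide +kernel

theorem dead12_69_21 : deadS live22_12_69.es (decS 5760 604435816112923668381687 803420748497304621041355768217581425457879638360434131075063) = true := by decide +kernel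

theorem dead12_69_22 : deadS live22_12_69.es (decS 5760 604504991469170797838347 803451398431505970590971779984787324363455500336192872251383) = true := by decide +kernel

theorem dead12_69_23 : deadS live22_12_69.es (decS 5760 604504991469170797838347 803414618538525178108003897287595478635914706567249831395319) = true := by decide +kernel

theorem dead12_69_24 : deadS live22_12_69.es (decS 5760 604504991469170797838347 803445268449342512610745913902620079169140137310527217467383) = true := by decide +kernel

theorem dead12_69_25 : deadS live22_12_69.es (decS 5760 604504991469170797838347 803457528413669450871985379908654635604133140542396924690423) = true := by decide +kernel

theorem dead12_69_26 : deadS live22_12_69.es (decS 7680 604435816112923668381687 803420748485612574491553528656641040041767905507159436689399) = true := by decide +kernel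

theorem dead12_69_27 : deadS live22_12_69.es (decS 7680 604435816112923668381687 803433008508399589396422978369984950419078085519731639975927) = true := by decide +kernel

theorem dead12_69_28 : deadS live22_12_69.es (decS 7680 604435816112923668381687 803420748520688624937894382533968552315014663262248616067063) = true := by decide +kernel

theorem dead12_69_29 : deadS live22_12_69.es (decS 7680 604435816112923668381687 803420748520688647238650214898699177979542001579065990447095) = true := by decide +kernel


end CfsgLib.M24Order.E6
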