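import Cfsg.Agent.Lib.M24Order.Keys6P22_12
import Cfsg.Agent.Lib.M24Order.Keys6Glue22

/-!
# Simple groups of order 244823040, `|N(P₇) : C(P₇)| = 6`: checks, solutions without values, k = 12, list 69
-/

set_option autoImplicit false

namespace CfsgLib.M24Order.E6

set_option maxHeartbeats 0
set_option maxRecDepth 100000
set_option Elab.async false

theorem dead12_69_30 : deadS live22_12_69.es (decS 7680 604504991469170797838347 803433008461631548152217318066603681065076715053044193558519) = true := by decide +kernel

theorem dead12_69_31 : deadS live22_12_69.es (decS 11520 604435816112923668381687 803420748485612574491553528656641040041767905507159436689399) = true := by decide +kernel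

theorem dead12_69_32 : deadS live22_12_69.es (decS 11520 604435816112923668381687 803433008461631537001839401884238368232882221184911917187063) = true := by decide +kernel

theorem dead12_69_33 : deadS live22_12_69.es (decS 11520 604435816112923668381687 803475918389389851984158539936854550809982117285942717317111) = true := by decide +kernel

theorem dead12_69_34 : deadS live22_12_69.es (decS 11520 604435816112923668381687 803426878485314091146107496336097953928056947971128929288183) = true := by decide +kernel

theorem dead12_69_35 : deadS live22_12_69.es (decS 11520 604435816112923668381687 803420748520688647238650214898699177979542001579065990447095) = true := by decide +kernel

theorem dead12_69_36 : deadS live22_12_69.es (decS 11520 604504991469170797838347 803396228615418808063838328792494569191760318760985496649719) = true := by decide +kernel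

theorem dead12_69_37 : deadS live22_12_69.es (decS 11520 604504991469170797838347 803433008479169573375337234318609841565996113595610415235063) = true := by decide +kernel

theorem dead12_69_38 : deadS live22_12_69.es (decS 11520 604504991469170797838347 803469788413072417278777965980740252671460459868627726237687) = true := by decide +kernel

theorem dead12_69_39 : deadS live22_12_69.es (decS 23040 604435816112923668381687 803420748520688647238650214898699177979542001579065990447095) = true := by decide +kernel


end CfsgLib.M24Order.E6
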