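import Cfsg.Agent.Lib.M24Order.Keys6P22_12
import Cfsg.Agent.Lib.M24Order.Keys6Glue22

/-!
# Simple groups of order 244823040, `|N(P₇) : C(P₇)| = 6`: checks, solutions without values, k = 12, list 69
-/

set_option autoImplicit false

namespace CfsgLib.M24Order.E6

set_option maxHeartbeats 0
set_option maxRecDepth 100000
set_option Elab.async false

theorem dead12_69_40 : deadS live22_12_69.es (decS 46080 604366640756676622811187 803420748520688680689757378855455803753521942804061154181111) = true := by decide +kernel


end CfsgLib.M24Order.E6
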