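import Cfsg.Agent.Lib.M24Order.Keys6P22_12
import Cfsg.Agent.Lib.M24Order.Keys6Glue22

/-!
# Simple groups of order 244823040, `|N(P₇) : C(P₇)| = 6`: checks, solutions without values, k = 12, list 74
-/

set_option autoImplicit false

namespace CfsgLib.M24Order.E6

set_option maxHeartbeats 0
set_option maxRecDepth 100000
set_option Elab.async false

theorem dead12_74_0 : deadS live22_12_74.es (decS 960 604458874586996270432267 803451398413967916098081255361670182802659725407687358808055) = true := by decide +kernel

theorem dead12_74_1 : deadS live22_12_74.es (decS 1920 604458874586996270432267 803439138508101071206009404211567700775415741702136555634679) = true := by decide +kernel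

theorem dead12_74_2 : deadS live22_12_74.es (decS 1920 604458874586996270432267 803463658436754914277386489254922373220022966543596325961719) = true := by decide +kernel

theorem dead12_74_3 : deadS live22_12_74.es (decS 1920 604458874586996270432267 803439138508101065630849689128686418578524971386311558037495) = true := by decide +kernel

theorem dead12_74_4 : deadS live22_12_74.es (decS 1920 604481932995098195787767 803445268425958440418148544492057326506707223749933362839543) = true := by decide +kernel

theorem dead12_74_5 : deadS live22_12_74.es (decS 3840 604412757704821743026187 803445268461034479714079580720191261353438479518072174018551) = true := by decide +kernel

theorem dead12_74_6 : deadS live22_12_74.es (decS 3840 604412757704821743026187 803433008496707563753585313189003224879875662277826478342135) = true := by decide +kernel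

theorem dead12_74_7 : deadS live22_12_74.es (decS 3840 604412757704821743026187 803433008473323526405928901046257780985119949800692819427319) = true := by decide +kernel

theorem dead12_74_8 : deadS live22_12_74.es (decS 3840 604412757704821743026187 803433008508399576852253804187635874267896473557077062057975) = true := by decide +kernel

theorem dead12_74_9 : deadS live22_12_74.es (decS 3840 604412757704821743026187 803433008461631513307271043886803232633940180543471868182519) = true := by decide +kernel


end CfsgLib.M24Order.E6
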