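import Cfsg.Agent.Lib.M24Order.Keys6P22_12
import Cfsg.Agent.Lib.M24Order.Keys6Glue22

/-!
# Simple groups of order 244823040, `|N(P₇) : C(P₇)| = 6`: checks, solutions without values, k = 12, list 74
-/

set_option autoImplicit false

namespace CfsgLib.M24Order.E6

set_option maxHeartbeats 0
set_option maxRecDepth 100000
set_option Elab.async false

theorem dead12_74_20 : deadS live22_12_74.es (decS 11520 604504991469170797838347 803420748497304586196393543246054946133289883015649323122679) = true := by decide +kernel

theorem dead12_74_21 : deadS live22_12_74.es (decS 23040 604504991469170797838347 803494308353418227453478084068405847146698013593661335928823) = true := by decide +kernel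

theorem dead12_74_22 : deadS live22_12_74.es (decS 23040 604504991469170797838347 803420748497304586196393543246054946133289883015649323122679) = true := by decide +kernel

theorem dead12_74_23 : deadS live22_12_74.es (decS 23040 604504991469170797838347 803445268472726503963110037124675009554451942343660217565175) = true := by decide +kernel


end CfsgLib.M24Order.E6
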