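import Cfsg.Agent.Lib.M24Order.Keys6P22_12
import Cfsg.Agent.Lib.M24Order.Keys6Glue22

/-!
# Simple groups of order 244823040, `|N(P₇) : C(P₇)| = 6`: checks, solutions without values, k = 12, list 75
-/

set_option autoImplicit false

namespace CfsgLib.M24Order.E6

set_option maxHeartbeats 0
set_option maxRecDepth 100000
set_option Elab.async false

theorem dead12_75_0 : deadS live22_12_75.es (decS 960 604458874586996270432267 803451398413967911916707481361718907353133330357372611723255) = true := by decide +kernel

theorem dead12_75_1 : deadS live22_12_75.es (decS 960 604458874586996270432267 803445268443496455884734971686583999394199551396040961163255) = true := by decide +kernel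

theorem dead12_75_2 : deadS live22_12_75.es (decS 1920 604458874586996270432267 803463658407524899650139855401238108869721121031993688588279) = true := by decide +kernel

theorem dead12_75_3 : deadS live22_12_75.es (decS 1920 604458874586996270432267 803439138443795006132432550334945842062839655134412925304823) = true := by decide +kernel

theorem dead12_75_4 : deadS live22_12_75.es (decS 1920 604458874586996270432267 803426878497006093094350218944517072198036533295216270508023) = true := by decide +kernel

theorem dead12_75_5 : deadS live22_12_75.es (decS 1920 604458874586996270432267 803445268455188513584888542834479753504534453389621417476087) = true := by decide +kernel

theorem dead12_75_6 : deadS live22_12_75.es (decS 1920 604458874586996270432267 803439138490563058527053345199503799492536238344823120592887) = true := by decide +kernel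

theorem dead12_75_7 : deadS live22_12_75.es (decS 1920 604458874586996270432267 803433008502553588422296300148721678233876913583252805517303) = true := by decide +kernel

theorem dead12_75_8 : deadS live22_12_75.es (decS 1920 604481932995098195787767 803445268425958441811945119398953622252461386388959253757943) = true := by decide +kernel

theorem dead12_75_9 : deadS live22_12_75.es (decS 3840 604412757704821743026187 803433008461631503550705653342213041808399159019859020873719) = true := by decide +kernel


end CfsgLib.M24Order.E6
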