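import Cfsg.Agent.Lib.M24Order.Keys6P22_12
import Cfsg.Agent.Lib.M24Order.Keys6Glue22

/-!
# Simple groups of order 244823040, `|N(P₇) : C(P₇)| = 6`: checks, solutions without values, k = 12, list 75
-/

set_option autoImplicit false

namespace CfsgLib.M24Order.E6

set_option maxHeartbeats 0
set_option maxRecDepth 100000
set_option Elab.async false

theorem dead12_75_10 : deadS live22_12_75.es (decS 3840 604412757704821743026187 803433008473323550100486625245079663768746265864306168430583) = true := by decide +kernel

theorem dead12_75_11 : deadS live22_12_75.es (decS 3840 604504991469170797838347 803469788377996355682096414340423607509586611225635372662775) = true := by decide +kernel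

theorem dead12_75_12 : deadS live22_12_75.es (decS 3840 604504991469170797838347 803457528437053443618151394990153791591719053302972071542775) = true := by decide +kernel

theorem dead12_75_13 : deadS live22_12_75.es (decS 15360 604551108373335494885347 803469788424764419227073857714061311948719093110072404344823) = true := by decide +kernel

theorem dead12_75_14 : deadS live22_12_75.es (decS 15360 604458874652966947127347 803469788424764419227073857714061311948719093110072404344823) = true := by decide +kernel


end CfsgLib.M24Order.E6
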