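import Cfsg.Agent.Lib.M24Order.Keys6P22_192
import Cfsg.Agent.Lib.M24Order.Keys6Glue22

/-!
# Simple groups of order 244823040, `|N(P₇) : C(P₇)| = 6`: checks, solutions without values, k = 192, list 69
-/

set_option autoImplicit false

namespace CfsgLib.M24Order.E6

set_option maxHeartbeats 0
set_option maxRecDepth 100000
set_option Elab.async false

theorem dead192_69_0 : deadS live22_192_69.es (decS 1920 604458874586996270432267 803457528413669428571229547579418207403150829826893406535671) = true := by decide +kernel

theorem dead192_69_1 : deadS live22_192_69.es (decS 1920 604458874586996270432267 803433008496707570722589455386629074301034215073115609235447) = true := by decide +kernel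

theorem dead192_69_2 : deadS live22_192_69.es (decS 1920 604458874586996270432267 803433008496707576297781071931268028362702739330657864384503) = true := by decide +kernel

theorem dead192_69_3 : deadS live22_192_69.es (decS 1920 604458874586996270432267 803445268437650488361726091281537844280570297253321165504503) = true := by decide +kernel

theorem dead192_69_4 : deadS live22_192_69.es (decS 1920 604458874586996270432267 803433008479169551074602669622094261530399313870211514892279) = true := by decide +kernel

theorem dead192_69_5 : deadS live22_192_69.es (decS 3840 604435816178894345076767 803494308330034224950751995334017220722004467192335767699447) = true := by decide +kernel

theorem dead192_69_6 : deadS live22_192_69.es (decS 3840 604435816112923668381687 803439138443794961530952787107807052791621038263989369831415) = true := by decide +kernel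

theorem dead192_69_7 : deadS live22_192_69.es (decS 3840 604435816112923668381687 803433008461631537001839401884238368232882221184911917187063) = true := by decide +kernel

theorem dead192_69_8 : deadS live22_192_69.es (decS 3840 604435816112923668381687 803414618538525155807279966425187305357828400313855344377847) = true := by decide +kernel

theorem dead192_69_9 : deadS live22_192_69.es (decS 3840 604435816112923668381687 803420748503150610865115164060163259369826615358653641261047) = true := by decide +kernel


end CfsgLib.M24Order.E6
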