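import Cfsg.Agent.Lib.M24Order.Keys6P22_192
import Cfsg.Agent.Lib.M24Order.Keys6Glue22

/-!
# Simple groups of order 244823040, `|N(P₇) : C(P₇)| = 6`: checks, solutions without values, k = 192, list 69
-/

set_option autoImplicit false

namespace CfsgLib.M24Order.E6

set_option maxHeartbeats 0
set_option maxRecDepth 100000
set_option Elab.async false

theorem dead192_69_10 : deadS live22_192_69.es (decS 3840 604435816112923668381687 803433008449939490452074380737603574866633960337422867234807) = true := by decide +kernel

theorem dead192_69_11 : deadS live22_192_69.es (decS 3840 604458874586996270432267 803439138437948960556810158150594376123075608603221167702007) = true := by decide +kernel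

theorem dead192_69_12 : deadS live22_192_69.es (decS 3840 604458874586996270432267 803433008455785480275828459678343493259691377660896211369975) = true := by decide +kernel

theorem dead192_69_13 : deadS live22_192_69.es (decS 3840 604458874586996270432267 803433008479169573375358501961471875190380510896770488205303) = true := by decide +kernel

theorem dead192_69_14 : deadS live22_192_69.es (decS 3840 604458874586996270432267 803433008461631525851461485722155484347037219424333002702839) = true := by decide +kernel

theorem dead192_69_15 : deadS live22_192_69.es (decS 3840 604458874586996270432267 803463658419216912748776444938113100900090154643942583828471) = true := by decide +kernel

theorem dead192_69_16 : deadS live22_192_69.es (decS 3840 604458874586996270432267 803457528407823427597097552441101227003548778768926985682935) = true := by decide +kernel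

theorem dead192_69_17 : deadS live22_192_69.es (decS 3840 604458874586996270432267 803433008496707576297781071931268028362702739330657864384503) = true := by decide +kernel

theorem dead192_69_18 : deadS live22_192_69.es (decS 3840 604458874586996270432267 803469788401380381879401494870860627184250424676781243498487) = true := by decide +kernel

theorem dead192_69_19 : deadS live22_192_69.es (decS 3840 604458874586996270432267 803457528413669450871990696861202613817736598762182870040567) = true := by decide +kernel


end CfsgLib.M24Order.E6
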