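import Cfsg.Agent.Lib.M24Order.Keys6P22_192
import Cfsg.Agent.Lib.M24Order.Keys6Glue22

/-!
# Simple groups of order 244823040, `|N(P₇) : C(P₇)| = 6`: checks, solutions without values, k = 192, list 69
-/

set_option autoImplicit false

namespace CfsgLib.M24Order.E6

set_option maxHeartbeats 0
set_option maxRecDepth 100000
set_option Elab.async false

theorem dead192_69_20 : deadS live22_192_69.es (decS 3840 604481932995098195787767 803420748508996600688853292264953758772450692175967514263543) = true := by decide +kernel

theorem dead192_69_21 : deadS live22_192_69.es (decS 3840 604481932995098195787767 803426878508698095042630159941888712484912554572306132238327) = true := by decide +kernel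

theorem dead192_69_22 : deadS live22_192_69.es (decS 3840 604481932995098195787767 803433008467477549126343996267584529139527910407270771982327) = true := by decide +kernel

theorem dead192_69_23 : deadS live22_192_69.es (decS 3840 604481932995098195787767 803457528431207453794397316054484490106695918173882681917431) = true := by decide +kernel

theorem dead192_69_24 : deadS live22_192_69.es (decS 3840 604504991469170797838347 803445268466880515533136582354881972752370202901779434700791) = true := by decide +kernel

theorem dead192_69_25 : deadS live22_192_69.es (decS 5760 604435816178894345076767 803451398431505970590971779984787324363455500336192872251383) = true := by decide +kernel

theorem dead192_69_26 : deadS live22_192_69.es (decS 5760 604435816178894345076767 803439138467179054630509413945780530638767708000732320366583) = true := by decide +kernel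

theorem dead192_69_27 : deadS live22_192_69.es (decS 5760 604435816112923668381687 803426878473622044596337158307903693332261589145232538599415) = true := by decide +kernel

theorem dead192_69_28 : deadS live22_192_69.es (decS 5760 604435816112923668381687 803433008461631537001839401884238368232882221184911917187063) = true := by decide +kernel

theorem dead192_69_29 : deadS live22_192_69.es (decS 5760 604435816112923668381687 803414618538525155807279966425187305357828400313855344377847) = true := by decide +kernel


end CfsgLib.M24Order.E6
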