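import Cfsg.Agent.Lib.M24Order.Keys6P22_192
import Cfsg.Agent.Lib.M24Order.Keys6Glue22

/-!
# Simple groups of order 244823040, `|N(P₇) : C(P₇)| = 6`: checks, solutions without values, k = 192, list 69
-/

set_option autoImplicit false

namespace CfsgLib.M24Order.E6

set_option maxHeartbeats 0
set_option maxRecDepth 100000
set_option Elab.async false

theorem dead192_69_30 : deadS live22_192_69.es (decS 5760 604435816112923668381687 803414618538525178108025164945669242091748507866353789042679) = true := by decide +kernel

theorem dead192_69_31 : deadS live22_192_69.es (decS 5760 604435816112923668381687 803420748520688647238650214898699177979542001579065990447095) = true := by decide +kernel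

theorem dead192_69_32 : deadS live22_192_69.es (decS 5760 604435816112923668381687 803420748497304621041355768217581425457879638360434131075063) = true := by decide +kernel

theorem dead192_69_33 : deadS live22_192_69.es (decS 5760 604435816112923668381687 803420748520688652813836514541496139151050064090317281820663) = true := by decide +kernel

theorem dead192_69_34 : deadS live22_192_69.es (decS 5760 604504991469170797838347 803451398431505970590971779984787324363455500336192872251383) = true := by decide +kernel

theorem dead192_69_35 : deadS live22_192_69.es (decS 5760 604504991469170797838347 803439138467179054630509413945780530638767708000732320366583) = true := by decide +kernel

theorem dead192_69_36 : deadS live22_192_69.es (decS 7680 604481933061068830539767 803445268461034525709398454155162133779098385188254713905143) = true := by decide +kernel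

theorem dead192_69_37 : deadS live22_192_69.es (decS 7680 604435816178894345076767 803433008461631548152217318066603681065076715053044193558519) = true := by decide +kernel

theorem dead192_69_38 : deadS live22_192_69.es (decS 7680 604435816112923668381687 803420748520688647238650214898699177979542001579065990447095) = true := by decide +kernel

theorem dead192_69_39 : deadS live22_192_69.es (decS 7680 604458874586996270432267 803396228592034770716171282785218055777016104392888550948855) = true := by decide +kernel


end CfsgLib.M24Order.E6
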