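import Cfsg.Agent.Lib.M24Order.Keys6P22_192
import Cfsg.Agent.Lib.M24Order.Keys6Glue22

/-!
# Simple groups of order 244823040, `|N(P₇) : C(P₇)| = 6`: checks, solutions without values, k = 192, list 69
-/

set_option autoImplicit false

namespace CfsgLib.M24Order.E6

set_option maxHeartbeats 0
set_option maxRecDepth 100000
set_option Elab.async false

theorem dead192_69_40 : deadS live22_192_69.es (decS 7680 604481933061068872482847 803445268461034525709398454155162133779098385188254713905143) = true := by decide +kernel

theorem dead192_69_41 : deadS live22_192_69.es (decS 7680 604481932995098195787767 803420748473920583693688722271152140853988978171773536698359) = true := by decide +kernel

theorem dead192_69_42 : deadS live22_192_69.es (decS 7680 604504991469170797838347 803433008461631548152217318066603681065076715053044193558519) = true := by decide +kernel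

theorem dead192_69_43 : deadS live22_192_69.es (decS 7680 604504991403200121143267 803420748520688647238650214898699177979542001579065990447095) = true := by decide +kernel

theorem dead192_69_44 : deadS live22_192_69.es (decS 11520 604366640822647215620107 803433008461631537001839401884238368232882221184911917187063) = true := by decide +kernel

theorem dead192_69_45 : deadS live22_192_69.es (decS 11520 604366640822647215620107 803414618538525155807279966425187305357828400313855344377847) = true := by decide +kernel

theorem dead192_69_46 : deadS live22_192_69.es (decS 11520 604366640822647215620107 803433008449939490452074380737603574866633960337422867234807) = true := by decide +kernel

theorem dead192_69_47 : deadS live22_192_69.es (decS 11520 604435816178894345076767 803433008455785502576578975126020415545463469241711379087351) = true := by decide +kernel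

theorem dead192_69_48 : deadS live22_192_69.es (decS 11520 604435816178894345076767 803475918389389851984153222999518399141884408853601685340151) = true := by decide +kernel

theorem dead192_69_49 : deadS live22_192_69.es (decS 11520 604435816178894345076767 803396228580342746467151460174277025690216759315434995974135) = true := by decide +kernel


end CfsgLib.M24Order.E6
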