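import Cfsg.Agent.Lib.M24Order.Keys6P22_192
import Cfsg.Agent.Lib.M24Order.Keys6Glue22

/-!
# Simple groups of order 244823040, `|N(P₇) : C(P₇)| = 6`: checks, solutions without values, k = 192, list 69
-/

set_option autoImplicit false

namespace CfsgLib.M24Order.E6

set_option maxHeartbeats 0
set_option maxRecDepth 100000
set_option Elab.async false

theorem dead192_69_50 : deadS live22_192_69.es (decS 11520 604435816112923668381687 803457528413669428571229547569276963915717213690859899846647) = true := by decide +kernel

theorem dead192_69_51 : deadS live22_192_69.es (decS 11520 604435816112923668381687 803433008455785502576584292063356567213561177674052411064311) = true := by decide +kernel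

theorem dead192_69_52 : deadS live22_192_69.es (decS 11520 604435816112923668381687 803433008461631537001839401884238368232882221184911917187063) = true := by decide +kernel

theorem dead192_69_53 : deadS live22_192_69.es (decS 11520 604435816112923668381687 803414618538525155807279966425187305357828400313855344377847) = true := by decide +kernel

theorem dead192_69_54 : deadS live22_192_69.es (decS 11520 604435816112923668381687 803420748520688647238650214898699177979542001579065990447095) = true := by decide +kernel

theorem dead192_69_55 : deadS live22_192_69.es (decS 11520 604435816112923668381687 803433008508399600546811528366175279748004468188227429728247) = true := by decide +kernel

theorem dead192_69_56 : deadS live22_192_69.es (decS 11520 604435816112923668381687 803457528448745479017565084539691938926385273823694770667511) = true := by decide +kernel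

theorem dead192_69_57 : deadS live22_192_69.es (decS 11520 604504991469170797838347 803433008455785502576578975126020415545463469241711379087351) = true := by decide +kernel

theorem dead192_69_58 : deadS live22_192_69.es (decS 11520 604504991469170797838347 803475918389389851984153222999518399141884408853601685340151) = true := by decide +kernel

theorem dead192_69_59 : deadS live22_192_69.es (decS 11520 604504991469170797838347 803396228580342746467151460174277025690216759315434995974135) = true := by decide +kernel


end CfsgLib.M24Order.E6
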