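import Cfsg.Agent.Lib.M24Order.Keys6P22_192
import Cfsg.Agent.Lib.M24Order.Keys6Glue22

/-!
# Simple groups of order 244823040, `|N(P₇) : C(P₇)| = 6`: checks, solutions without values, k = 192, list 69
-/

set_option autoImplicit false

namespace CfsgLib.M24Order.E6

set_option maxHeartbeats 0
set_option maxRecDepth 100000
set_option Elab.async false

theorem dead192_69_60 : deadS live22_192_69.es (decS 11520 604504991403200121143267 803457528413669428571229547569276963915717213690859899846647) = true := by decide +kernel

theorem dead192_69_61 : deadS live22_192_69.es (decS 11520 604504991403200121143267 803433008461631537001839401884238368232882221184911917187063) = true := by decide +kernel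

theorem dead192_69_62 : deadS live22_192_69.es (decS 11520 604504991403200121143267 803414618538525155807279966425187305357828400313855344377847) = true := by decide +kernel

theorem dead192_69_63 : deadS live22_192_69.es (decS 11520 604504991403200121143267 803420748520688647238650214898699177979542001579065990447095) = true := by decide +kernel

theorem dead192_69_64 : deadS live22_192_69.es (decS 23040 604366640822647215620107 803420748520688647238650214898699177979542001579065990447095) = true := by decide +kernel

theorem dead192_69_65 : deadS live22_192_69.es (decS 23040 604435816112923668381687 803420748520688647238650214898699177979542001579065990447095) = true := by decide +kernel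

theorem dead192_69_66 : deadS live22_192_69.es (decS 23040 604504991403200121143267 803420748520688647238650214898699177979542001579065990447095) = true := by decide +kernel

theorem dead192_69_67 : deadS live22_192_69.es (decS 23040 604574166693476573904847 803420748520688647238650214898699177979542001579065990447095) = true := by decide +kernel

theorem dead192_69_68 : deadS live22_192_69.es (decS 23040 604435816112923752267847 803420748520688647238650214898699177979542001579065990447095) = true := by decide +kernel


end CfsgLib.M24Order.E6
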