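import Cfsg.Agent.Lib.M24Order.Keys6P22_192
import Cfsg.Agent.Lib.M24Order.Keys6Glue22

/-!
# Simple groups of order 244823040, `|N(P₇) : C(P₇)| = 6`: checks, list 74, k = 192
-/

set_option autoImplicit false

namespace CfsgLib.M24Order.E6

set_option maxHeartbeats 0
set_option maxRecDepth 100000
set_option Elab.async false

theorem dead192_74_0 : deadS live22_192_74.es (decS 1280 604458874586996270432267 803451398413967916098081255381952573063498281997567814795255) = true := by decide +kernel

theorem dead192_74_1 : deadS live22_192_74.es (decS 3840 604435816112923668381687 803426878520390112322661791096223972570329723101178417905655) = true := by decide +kernel

theorem dead192_74_2 : deadS live22_192_74.es (decS 3840 604458874586996270432267 803451398437351947870577952396181269631817459578344871297015) = true := by decide +kernel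

theorem dead192_74_3 : deadS live22_192_74.es (decS 3840 604481933061068872482847 803488178342024736726634159571458895796079154664724845035511) = true := by decide +kernel

theorem dead192_74_4 : deadS live22_192_74.es (decS 3840 604504991469170797838347 803445268472726503963110037155098594945709777228480901545975) = true := by decide +kernel

theorem dead192_74_5 : deadS live22_192_74.es (decS 23040 604366640888617892315187 803445268472726503963110037155098594945709777228480901545975) = true := by decide +kernel

theorem dead192_74_6 : deadS live22_192_74.es (decS 23040 604574166759447166713767 803445268472726503963110037155098594945709777228480901545975) = true := by decide +kernel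

theorem dead192_74_7 : deadS live22_192_74.es (decS 23040 604435816178894345076767 803445268472726503963110037155098594945709777228480901545975) = true := by decide +kernel

theorem dead192_74_8 : deadS live22_192_74.es (decS 23040 604504991469170797838347 803445268472726503963110037155098594945709777228480901545975) = true := by decide +kernel

theorem dead192_74_9 : deadS live22_192_74.es (decS 23040 604574166759447250599927 803445268472726503963110037155098594945709777228480901545975) = true := by decide +kernel

end CfsgLib.M24Order.E6
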