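import Cfsg.Agent.Lib.M24Order.Keys6P22_192
import Cfsg.Agent.Lib.M24Order.Keys6Glue22

/-!
# Simple groups of order 244823040, `|N(P₇) : C(P₇)| = 6`: checks, solutions without values, k = 192, list 76
-/

set_option autoImplicit false

namespace CfsgLib.M24Order.E6

set_option maxHeartbeats 0
set_option maxRecDepth 100000
set_option Elab.async false

theorem dead192_76_0 : deadS live22_192_76.es (decS 3840 604458874586996270432267 803498905780119235688747587016715333045160524302080419561463) = true := by decide +kernel

theorem dead192_76_1 : deadS live22_192_76.es (decS 7680 604412757704821743026187 803498905803503261886057984428711902156352533797319838531575) = true := by decide +kernel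

theorem dead192_76_2 : deadS live22_192_76.es (decS 7680 604412757704821743026187 803474385863157400140863327214009924654808683140439224090615) = true := by decide +kernel

theorem dead192_76_3 : deadS live22_192_76.es (decS 7680 604412757704821743026187 803462125887138454356194838916194401871236438958298754449399) = true := by decide +kernel

theorem dead192_76_4 : deadS live22_192_76.es (decS 7680 604412757704821743026187 803498905797657272062261370217459907474128006680480024362999) = true := by decide +kernel

theorem dead192_76_5 : deadS live22_192_76.es (decS 7680 604412757704821743026187 803492775827185838331034059052665731447260829943562628497399) = true := by decide +kernel

theorem dead192_76_6 : deadS live22_192_76.es (decS 7680 604435816178894345076767 803486645821638320702470385235857061426158464352774877872119) = true := by decide +kernel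

theorem dead192_76_7 : deadS live22_192_76.es (decS 7680 604481932995098195787767 803498905803503261886057984428711902156352533797319838531575) = true := by decide +kernel

theorem dead192_76_8 : deadS live22_192_76.es (decS 7680 604481932995098195787767 803474385863157400140863327214009924654808683140439224090615) = true := by decide +kernel

theorem dead192_76_9 : deadS live22_192_76.es (decS 7680 604481932995098195787767 803474385857311399166662212209770807771069610724797981392887) = true := by decide +kernel


end CfsgLib.M24Order.E6
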