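import Cfsg.Agent.Lib.M24Order.Keys6P22_192
import Cfsg.Agent.Lib.M24Order.Keys6Glue22

/-!
# Simple groups of order 244823040, `|N(P₇) : C(P₇)| = 6`: checks, solutions without values, k = 192, list 76
-/

set_option autoImplicit false

namespace CfsgLib.M24Order.E6

set_option maxHeartbeats 0
set_option maxRecDepth 100000
set_option Elab.async false

theorem dead192_76_10 : deadS live22_192_76.es (decS 7680 604481932995098195787767 803498905815195308435759202646760826763412494612163352592375) = true := by decide +kernel

theorem dead192_76_11 : deadS live22_192_76.es (decS 7680 604481932995098195787767 803498905815195308435886808534356294744089943094351037464567) = true := by decide +kernel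

theorem dead192_76_12 : deadS live22_192_76.es (decS 7680 604481932995098195787767 803462125887138454356194838916194401871236438958298754449399) = true := by decide +kernel

theorem dead192_76_13 : deadS live22_192_76.es (decS 7680 604481932995098195787767 803480515833628845022431336106298915214062975386979926540279) = true := by decide +kernel

theorem dead192_76_14 : deadS live22_192_76.es (decS 7680 604481932995098195787767 803498905797657272062261370217459907474128006680480024362999) = true := by decide +kernel

theorem dead192_76_15 : deadS live22_192_76.es (decS 7680 604481932995098195787767 803492775827185838331034059052665731447260829943562628497399) = true := by decide +kernel

theorem dead192_76_16 : deadS live22_192_76.es (decS 7680 604504991469170797838347 803486645821638320702470385235857061426158464352774877872119) = true := by decide +kernel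

theorem dead192_76_17 : deadS live22_192_76.es (decS 11520 604504991403200121143267 803498905821041303834789968739081808736588931020658464784375) = true := by decide +kernel

theorem dead192_76_18 : deadS live22_192_76.es (decS 15360 604412757704821743026187 803492775797955777708452601119332091432794397645322108534775) = true := by decide +kernel

theorem dead192_76_19 : deadS live22_192_76.es (decS 15360 604412757704821743026187 803492775797955777708580207006927559413471846127509793406967) = true := by decide +kernel


end CfsgLib.M24Order.E6
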