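import Cfsg.Agent.Lib.M24Order.Keys6P22_192
import Cfsg.Agent.Lib.M24Order.Keys6Glue22

/-!
# Simple groups of order 244823040, `|N(P₇) : C(P₇)| = 6`: checks, solutions without values, k = 192, list 76
-/

set_option autoImplicit false

namespace CfsgLib.M24Order.E6

set_option maxHeartbeats 0
set_option maxRecDepth 100000
set_option Elab.async false

theorem dead192_76_20 : deadS live22_192_76.es (decS 15360 604412757704821743026187 803492775833031833729953169932493425947863871993681413668855) = true := by decide +kernel

theorem dead192_76_21 : deadS live22_192_76.es (decS 15360 604412757704821743026187 803498905815195308435759202646760826763412494612163352592375) = true := by decide +kernel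

theorem dead192_76_22 : deadS live22_192_76.es (decS 15360 604412757704821743026187 803498905815195308435886808534356294744089943094351037464567) = true := by decide +kernel

theorem dead192_76_23 : deadS live22_192_76.es (decS 15360 604458874652966947127347 803468255857609904812949147451280576044368049481563859582967) = true := by decide +kernel

theorem dead192_76_24 : deadS live22_192_76.es (decS 15360 604458874652966947127347 803480515827782838473139625961159746659657142810977510096887) = true := by decide +kernel

theorem dead192_76_25 : deadS live22_192_76.es (decS 15360 604458874652966947127347 803492775809647785231913524771458671956518765307067512651767) = true := by decide +kernel

theorem dead192_76_26 : deadS live22_192_76.es (decS 15360 604504991469170797838347 803474385851465375891747800146807445361001298532442346881015) = true := by decide +kernel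

theorem dead192_76_27 : deadS live22_192_76.es (decS 15360 604504991469170797838347 803498905791811243212256362932466680893468228125373053272055) = true := by decide +kernel

theorem dead192_76_28 : deadS live22_192_76.es (decS 15360 604504991469170797838347 803498905803503278611521178981971294034951693597496236834807) = true := by decide +kernel

theorem dead192_76_29 : deadS live22_192_76.es (decS 15360 604504991469170797838347 803498905803503278611648784747872188336840436531599642198007) = true := by decide +kernel


end CfsgLib.M24Order.E6
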