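import Cfsg.Agent.Lib.M24Order.Keys6P22_192
import Cfsg.Agent.Lib.M24Order.Keys6Glue22

/-!
# Simple groups of order 244823040, `|N(P₇) : C(P₇)| = 6`: checks, solutions without values, k = 192, list 76
-/

set_option autoImplicit false

namespace CfsgLib.M24Order.E6

set_option maxHeartbeats 0
set_option maxRecDepth 100000
set_option Elab.async false

theorem dead192_76_30 : deadS live22_192_76.es (decS 15360 604504991469170797838347 803498905815195314011041206745819266156198996012833511571447) = true := by decide +kernel

theorem dead192_76_31 : deadS live22_192_76.es (decS 15360 604458874565006100791347 803498905815195308435759202646760826763412494612163352592375) = true := by decide +kernel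

theorem dead192_76_32 : deadS live22_192_76.es (decS 15360 604458874565006100791347 803498905815195308435886808534356294744089943094351037464567) = true := by decide +kernel

theorem dead192_76_33 : deadS live22_192_76.es (decS 23040 604366640756676538925027 803480515857012871219757684304950917653452449709777440210935) = true := by decide +kernel

theorem dead192_76_34 : deadS live22_192_76.es (decS 23040 604366640756676538925027 803492775797955783283702703655220733571320007632440741330935) = true := by decide +kernel

theorem dead192_76_35 : deadS live22_192_76.es (decS 23040 604435816178894345076767 803474385851465375891747800146807445361001298532442346881015) = true := by decide +kernel

theorem dead192_76_36 : deadS live22_192_76.es (decS 23040 604435816178894345076767 803498905803503278611521178981971294034951693597496236834807) = true := by decide +kernel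

theorem dead192_76_37 : deadS live22_192_76.es (decS 23040 604435816178894345076767 803492775815493819657136733064664950556422517338480245735415) = true := by decide +kernel

theorem dead192_76_38 : deadS live22_192_76.es (decS 23040 604435816046952991686607 803480515857012871219757684304950917653452449709777440210935) = true := by decide +kernel

theorem dead192_76_39 : deadS live22_192_76.es (decS 23040 604435816046952991686607 803492775797955783283702703655220733571320007632440741330935) = true := by decide +kernel


end CfsgLib.M24Order.E6
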