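import Cfsg.Agent.Lib.M24Order.Keys6P22_192
import Cfsg.Agent.Lib.M24Order.Keys6Glue22

/-!
# Simple groups of order 244823040, `|N(P₇) : C(P₇)| = 6`: checks, solutions without values, k = 192, list 76
-/

set_option autoImplicit false

namespace CfsgLib.M24Order.E6

set_option maxHeartbeats 0
set_option maxRecDepth 100000
set_option Elab.async false

theorem dead192_76_40 : deadS live22_192_76.es (decS 23040 604504991469170797838347 803474385851465375891747800146807445361001298532442346881015) = true := by decide +kernel

theorem dead192_76_41 : deadS live22_192_76.es (decS 23040 604504991469170797838347 803498905803503278611521178981971294034951693597496236834807) = true := by decide +kernel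

theorem dead192_76_42 : deadS live22_192_76.es (decS 23040 604504991469170797838347 803492775815493819657136733064664950556422517338480245735415) = true := by decide +kernel

theorem dead192_76_43 : deadS live22_192_76.es (decS 46080 604366640888617892315187 803474385851465375891747800146807445361001298532442346881015) = true := by decide +kernel

theorem dead192_76_44 : deadS live22_192_76.es (decS 46080 604366640888617892315187 803498905821041331710737417623098231387089570205366166749175) = true := by decide +kernel

theorem dead192_76_45 : deadS live22_192_76.es (decS 46080 604366640756676538925027 803480515857012871219757684304950917653452449709777440210935) = true := by decide +kernel

theorem dead192_76_46 : deadS live22_192_76.es (decS 46080 604366640756676538925027 803492775797955783283702703655220733571320007632440741330935) = true := by decide +kernel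

theorem dead192_76_47 : deadS live22_192_76.es (decS 46080 604504991469170797838347 803474385851465375891747800146807445361001298532442346881015) = true := by decide +kernel

theorem dead192_76_48 : deadS live22_192_76.es (decS 46080 604504991469170797838347 803498905821041331710737417623098231387089570205366166749175) = true := by decide +kernel

theorem dead192_76_49 : deadS live22_192_76.es (decS 46080 604504991337229444448187 803480515857012871219757684304950917653452449709777440210935) = true := by decide +kernel


end CfsgLib.M24Order.E6
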