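import Cfsg.Agent.Lib.M24Order.Keys6P22_192
import Cfsg.Agent.Lib.M24Order.Keys6Glue22

/-!
# Simple groups of order 244823040, `|N(P₇) : C(P₇)| = 6`: checks, solutions without values, k = 192, list 76
-/

set_option autoImplicit false

namespace CfsgLib.M24Order.E6

set_option maxHeartbeats 0
set_option maxRecDepth 100000
set_option Elab.async false

theorem dead192_76_50 : deadS live22_192_76.es (decS 46080 604504991337229444448187 803492775797955783283702703655220733571320007632440741330935) = true := by decide +kernel

theorem dead192_76_51 : deadS live22_192_76.es (decS 46080 604366640756676622811187 803480515857012871219757684304950917653452449709777440210935) = true := by decide +kernel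

theorem dead192_76_52 : deadS live22_192_76.es (decS 46080 604366640756676622811187 803492775797955783283702703655220733571320007632440741330935) = true := by decide +kernel


end CfsgLib.M24Order.E6
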