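import Cfsg.Agent.Lib.M24Order.Keys6P22_192
import Cfsg.Agent.Lib.M24Order.Keys6Glue22

/-!
# Simple groups of order 244823040, `|N(P₇) : C(P₇)| = 6`: checks, solutions without values, k = 192, list 97
-/

set_option autoImplicit false

namespace CfsgLib.M24Order.E6

set_option maxHeartbeats 0
set_option maxRecDepth 100000
set_option Elab.async false

theorem dead192_97_0 : deadS live22_192_97.es (decS 3840 604458874586996270432267 803469788360458297007804201961134913034294787804021134983173) = true := by decide +kernel

theorem dead192_97_1 : deadS live22_192_97.es (decS 3840 604458874586996270432267 803457528407823382995584558530547189222556102048291126509573) = true := by decide +kernel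

theorem dead192_97_2 : deadS live22_192_97.es (decS 3840 604458874586996270432267 803518828206073975627065546791983346244723290054242025865221) = true := by decide +kernel

theorem dead192_97_3 : deadS live22_192_97.es (decS 3840 604458874586996270432267 803433008537629577541528042777869279562552489764131966550021) = true := by decide +kernel

theorem dead192_97_4 : deadS live22_192_97.es (decS 7680 604412757726811954610187 803518828206073975627065546791983346244723290054242025865221) = true := by decide +kernel

theorem dead192_97_5 : deadS live22_192_97.es (decS 7680 604412757726811954610187 803433008537629577541528042777869279562552489764131966550021) = true := by decide +kernel

theorem dead192_97_6 : deadS live22_192_97.es (decS 7680 604481933061068830539767 803482048359861268989799038417037614214259110440555469340677) = true := by decide +kernel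

theorem dead192_97_7 : deadS live22_192_97.es (decS 7680 604435816178894345076767 803500438230353591240451285722597885437624898998441774415877) = true := by decide +kernel

theorem dead192_97_8 : deadS live22_192_97.es (decS 7680 604458874586996270432267 803518828206073975627065546791983346244723290054242025865221) = true := by decide +kernel

theorem dead192_97_9 : deadS live22_192_97.es (decS 7680 604458874586996270432267 803433008537629577541528042777869279562552489764131966550021) = true := by decide +kernel


end CfsgLib.M24Order.E6
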