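import Cfsg.Agent.Lib.M24Order.Keys6P22_192
import Cfsg.Agent.Lib.M24Order.Keys6Glue22

/-!
# Simple groups of order 244823040, `|N(P₇) : C(P₇)| = 6`: checks, solutions without values, k = 192, list 97
-/

set_option autoImplicit false

namespace CfsgLib.M24Order.E6

set_option maxHeartbeats 0
set_option maxRecDepth 100000
set_option Elab.async false

theorem dead192_97_10 : deadS live22_192_97.es (decS 7680 604481933061068872482847 803482048359861268989799038417037614214259110440555469340677) = true := by decide +kernel

theorem dead192_97_11 : deadS live22_192_97.es (decS 7680 604458874521025593737187 803475918336775737288381709307953502700351385014881312309253) = true := by decide +kernel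

theorem dead192_97_12 : deadS live22_192_97.es (decS 7680 604458874521025593737187 803451398431505909263942422446778055076874013503421295362053) = true := by decide +kernel

theorem dead192_97_13 : deadS live22_192_97.es (decS 7680 604481932995098195787767 803512698194680479325014055060083385421765648250831409512453) = true := by decide +kernel

theorem dead192_97_14 : deadS live22_192_97.es (decS 7680 604481932995098195787767 803414618573601167227256907615381594927856162204991341723653) = true := by decide +kernel

theorem dead192_97_15 : deadS live22_192_97.es (decS 7680 604504991469170797838347 803500438230353591240451285722597885437624898998441774415877) = true := by decide +kernel

theorem dead192_97_16 : deadS live22_192_97.es (decS 7680 604481933017088449314847 803518828206073975627065546791983346244723290054242025865221) = true := by decide +kernel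

theorem dead192_97_17 : deadS live22_192_97.es (decS 7680 604481933017088449314847 803433008537629577541528042777869279562552489764131966550021) = true := by decide +kernel

theorem dead192_97_18 : deadS live22_192_97.es (decS 15360 604412757704821743026187 803402358667734322335185056495702756320300131514424753651717) = true := by decide +kernel

theorem dead192_97_19 : deadS live22_192_97.es (decS 15360 604458874652966947127347 803475918266623675422030683622934312573429604476330201055237) = true := by decide +kernel


end CfsgLib.M24Order.E6
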