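import Cfsg.Agent.Lib.M24Order.Keys6P22_192
import Cfsg.Agent.Lib.M24Order.Keys6Glue22

/-!
# Simple groups of order 244823040, `|N(P₇) : C(P₇)| = 6`: checks, solutions without values, k = 192, list 97
-/

set_option autoImplicit false

namespace CfsgLib.M24Order.E6

set_option maxHeartbeats 0
set_option maxRecDepth 100000
set_option Elab.async false

theorem dead192_97_20 : deadS live22_192_97.es (decS 15360 604458874652966947127347 803402358550814191348712823039407969702997489941950150213637) = true := by decide +kernel

theorem dead192_97_21 : deadS live22_192_97.es (decS 15360 604504991469170797838347 803500438230353591240451285722597885437624898998441774415877) = true := by decide +kernel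


end CfsgLib.M24Order.E6
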