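import Cfsg.Agent.Lib.M24Order.Keys6P22_12
import Cfsg.Agent.Lib.M24Order.Keys6Glue22

/-!
# Simple groups of order 244823040, `|N(P₇) : C(P₇)| = 6`: checks, list 276, k = 12
-/

set_option autoImplicit false

namespace CfsgLib.M24Order.E6

set_option maxHeartbeats 0
set_option maxRecDepth 100000
set_option Elab.async false

theorem dead12_276_0 : deadS live22_12_276.es (decS 11520 604435816112923668381687 803414618538525171138994438112068660757239025520913483825143) = true := by decide +kernel

theorem s12_276_1_0 : okS2 12 tabS12 live22_12_276 (live22_12_276.ks.getD 1 (deadK 0)) [decS 11520 604435816112923668381687 803414618538525171138994438112068660757239025520913483825143] [20,140,60,420,180,1260,540,3780,40,280,120,840,360,2520,1080,7560,80,560,240,1680,720,5040,2160,15120,160,1120,480,3360,1440,10080,4320,30240,320,2240,960,6720,2880,20160,8640,60480,640,4480,1920,13440,5760,40320,17280,120960,1280,8960,3840,26880,11520,80640,34560,241920,2560,17920,7680,53760,23040,161280,69120,483840,5120,35840,15360,107520,46080,322560,138240,967680] = true := by decide +kernel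

theorem y12_276 : okY 12 live22_12_276 = true := by decide +kernel

theorem w12_276 : live22_12_276.ks.all (okW 22 12 live22_12_276) = true := by decide +kernel

theorem m12_276 : live22_12_276.ks.all (okM live22_12_276) = true := by decide +kernel

theorem ks12_276 : live22_12_276.ks.map KP.k7 = [192, 24, 3] := by decide +kernel

theorem live22_12_276_ok : okPlan 22 12 tabS12 tabZ12 live22_12_276 = true := by
  refine okPlan_of22 [decS 11520 604435816112923668381687 803414618538525171138994438112068660757239025520913483825143] ks12_276 y12_276 w12_276 ?_ ?_ ?_ m12_276
  · intro K hK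
    obtain ⟨j, hj, rfl⟩ := List.getElem_of_mem hK
    match j, hj with
    | 0, _ => exact Or.inl rfl
    | 1, _ => exact Or.inr (okS1_of (Cs := [[20,140,60,420,180,1260,540,3780,40,280,120,840,360,2520,1080,7560,80,560,240,1680,720,5040,2160,15120,160,1120,480,3360,1440,10080,4320,30240,320,2240,960,6720,2880,20160,8640,60480,640,4480,1920,13440,5760,40320,17280,120960,1280,8960,3840,26880,11520,80640,34560,241920,2560,17920,7680,53760,23040,161280,69120,483840,5120,35840,15360,107520,46080,322560,138240,967680]]) (by decide +kernel) (by
      intro l hl
      simp only [List.mem_cons, List.not_mem_nil, or_false] at hl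
      rcases hl with rfl
      exacts [s12_276_1_0]))
    | 2, _ => exact Or.inl rfl
    | n + 3, h => exact absurd h (by simp [live22_12_276])
  · intro s hs
    simp only [List.mem_cons, List.not_mem_nil, or_false] at hs
    rcases hs with rfl
    exacts [dead12_276_0]
  · intro K hK
    obtain ⟨j, hj, rfl⟩ := List.getElem_of_mem hK
    match j, hj with
    | 0, _ => rfl
    | 1, _ => rfl
    | 2, _ => rfl
    | n + 3, h => exact absurd h (by simp [live22_12_276])

end CfsgLib.M24Order.E6
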