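import Cfsg.Agent.Lib.M24Order.Keys6P22_12
import Cfsg.Agent.Lib.M24Order.Keys6Glue22

/-!
# Simple groups of order 244823040, `|N(P₇) : C(P₇)| = 6`: checks, member of degree 22, k = 12, list 69, the block for 11, part 0
-/

set_option autoImplicit false

namespace CfsgLib.M24Order.E6

set_option maxHeartbeats 0
set_option maxRecDepth 100000
set_option Elab.async false

theorem m12_69_0 : okM live22_12_69 { (live22_12_69.ks.getD 1 (deadK 0)) with grp := (live22_12_69.ks.getD 1 (deadK 0)).grp.take 1 } = true := by
  decide +kernel

end CfsgLib.M24Order.E6
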