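import Cfsg.Agent.Lib.M24Order.Keys6P22_192

/-!
# Simple groups of order 244823040, `|N(P₇) : C(P₇)| = 6`: checks, segments, k = 192
-/

set_option autoImplicit false

namespace CfsgLib.M24Order.E6

set_option maxHeartbeats 0
set_option maxRecDepth 100000
set_option Elab.async false

theorem key22_192_0 : plans22_192_0.all (okPlan 22 192 tabS192 tabZ192) = true := by decide +kernel

theorem key22_192_1 : plans22_192_1.all (okPlan 22 192 tabS192 tabZ192) = true := by decide +kernel

theorem key22_192_2 : plans22_192_2.all (okPlan 22 192 tabS192 tabZ192) = true := by decide +kernel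

theorem key22_192_3 : plans22_192_3.all (okPlan 22 192 tabS192 tabZ192) = true := by decide +kernel

theorem key22_192_4 : plans22_192_4.all (okPlan 22 192 tabS192 tabZ192) = true := by decide +kernel


end CfsgLib.M24Order.E6
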