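import Cfsg.Agent.Lib.M24Order.Keys6P22_192
import Cfsg.Agent.Lib.M24Order.Keys6Glue22

/-!
# Simple groups of order 244823040, `|N(P₇) : C(P₇)| = 6`: checks, the involution centralising P7, k = 192, list 69
-/

set_option autoImplicit false

namespace CfsgLib.M24Order.E6

set_option maxHeartbeats 0
set_option maxRecDepth 100000
set_option Elab.async false

theorem z192_69_0 : okZ2 192 tabZ192 live22_192_69 (live22_192_69.ks.getD 1 (deadK 0)) [28,140,84,420,252,1260,756,3780,56,280,168,840,504,2520,1512,7560,112,560,336,1680,1008,5040,3024,15120,224,1120,672,3360,2016,10080,6048,30240,448,2240,1344,6720,4032,20160,12096,60480,896,4480,2688,13440,8064,40320,24192,120960,1792,8960,5376] = true := by decide +kernel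


end CfsgLib.M24Order.E6
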