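import Cfsg.Agent.Lib.M24Order.K6.Z22_192_69_3a
import Cfsg.Agent.Lib.M24Order.K6.Z22_192_69_3b

/-!
# Simple groups of order 244823040, `|N(P₇) : C(P₇)| = 6`: checks, the involution centralising P7, k = 192, list 69, 80640
-/

set_option autoImplicit false

namespace CfsgLib.M24Order.E6

set_option maxHeartbeats 0
set_option maxRecDepth 100000
set_option Elab.async false

theorem z192_69_3 : okZ2 192 tabZ192 live22_192_69 (live22_192_69.ks.getD 1 (deadK 0)) [80640] = true :=
  okZ2_one (by decide +kernel) (by decide +kernel) (searchCol_of_cut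
    (searchCut_split (fun l => l) 4 z192_69_3_0 (searchCut_split (fun l => (l).drop 4) 1 z192_69_3_1 (searchCut_split (fun l => ((l).drop 4).drop 1) 1 z192_69_3_2 (searchCut_split (fun l => (((l).drop 4).drop 1).drop 1) 1 z192_69_3_3 (searchCut_split (fun l => ((((l).drop 4).drop 1).drop 1).drop 1) 1 z192_69_3_4 (searchCut_split (fun l => (((((l).drop 4).drop 1).drop 1).drop 1).drop 1) 1 z192_69_3_5 (searchCut_split (fun l => ((((((l).drop 4).drop 1).drop 1).drop 1).drop 1).drop 1) 1 z192_69_3_6 (searchCut_split (fun l => (((((((l).drop 4).drop 1).drop 1).drop 1).drop 1).drop 1).drop 1) 1 z192_69_3_7 z192_69_3_8)))))))))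

end CfsgLib.M24Order.E6
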