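import Cfsg.Agent.Lib.M24Order.Keys6P22_192
import Cfsg.Agent.Lib.M24Order.Keys6Cut

/-!
# Simple groups of order 244823040, `|N(P₇) : C(P₇)| = 6`: checks, the involution centralising P7, k = 192, list 69, 80640, first values
-/

set_option autoImplicit false

namespace CfsgLib.M24Order.E6

set_option maxHeartbeats 0
set_option maxRecDepth 100000
set_option Elab.async false

theorem z192_69_3_0 : searchCut (fun l => (l).take 4) 2 80640 false false (E3.pick live22_192_69.es ((0, 0), 0) (live22_192_69.ks.getD 1 (deadK 0)).zp) tabZ192 [] none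
    (finZ 192 live22_192_69 (live22_192_69.ks.getD 1 (deadK 0))) = true := by
  decide +kernel

theorem z192_69_3_1 : searchCut (fun l => ((l).drop 4).take 1) 2 80640 false false (E3.pick live22_192_69.es ((0, 0), 0) (live22_192_69.ks.getD 1 (deadK 0)).zp) tabZ192 [] none
    (finZ 192 live22_192_69 (live22_192_69.ks.getD 1 (deadK 0))) = true := by
  decide +kernel

theorem z192_69_3_2 : searchCut (fun l => (((l).drop 4).drop 1).take 1) 2 80640 false false (E3.pick live22_192_69.es ((0, 0), 0) (live22_192_69.ks.getD 1 (deadK 0)).zp) tabZ192 [] none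
    (finZ 192 live22_192_69 (live22_192_69.ks.getD 1 (deadK 0))) = true := by
  decide +kernel

theorem z192_69_3_3 : searchCut (fun l => ((((l).drop 4).drop 1).drop 1).take 1) 2 80640 false false (E3.pick live22_192_69.es ((0, 0), 0) (live22_192_69.ks.getD 1 (deadK 0)).zp) tabZ192 [] none
    (finZ 192 live22_192_69 (live22_192_69.ks.getD 1 (deadK 0))) = true := by
  decide +kernel

theorem z192_69_3_4 : searchCut (fun l => (((((l).drop 4).drop 1).drop 1).drop 1).take 1) 2 80640 false false (E3.pick live22_192_69.es ((0, 0), 0) (live22_192_69.ks.getD 1 (deadK 0)).zp) tabZ192 [] none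
    (finZ 192 live22_192_69 (live22_192_69.ks.getD 1 (deadK 0))) = true := by
  decide +kernel

end CfsgLib.M24Order.E6
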