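import Cfsg.Agent.Lib.M24Order.Keys6P22_192
import Cfsg.Agent.Lib.M24Order.Keys6Glue22

/-!
# Simple groups of order 244823040, `|N(P₇) : C(P₇)| = 6`: checks, the involution centralising P7, k = 192, list 69
-/

set_option autoImplicit false

namespace CfsgLib.M24Order.E6

set_option maxHeartbeats 0
set_option maxRecDepth 100000
set_option Elab.async false

theorem z192_69_4 : okZ2 192 tabZ192 live22_192_69 (live22_192_69.ks.getD 1 (deadK 0)) [48384,241920,3584,17920,10752,53760,32256] = true := by decide +kernel


end CfsgLib.M24Order.E6
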