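import Cfsg.Agent.Lib.M24Order.K6.Z22_192_69_5a
import Cfsg.Agent.Lib.M24Order.K6.Z22_192_69_5b

/-!
# Simple groups of order 244823040, `|N(P₇) : C(P₇)| = 6`: checks, the involution centralising P7, k = 192, list 69, 161280
-/

set_option autoImplicit false

namespace CfsgLib.M24Order.E6

set_option maxHeartbeats 0
set_option maxRecDepth 100000
set_option Elab.async false

theorem z192_69_5 : okZ2 192 tabZ192 live22_192_69 (live22_192_69.ks.getD 1 (deadK 0)) [161280] = true :=
  okZ2_one (by decide +kernel) (by decide +kernel) (searchCol_of_cut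
    (searchCut_split (fun l => l) 4 z192_69_5_0 (searchCut_split (fun l => (l).drop 4) 4 z192_69_5_1 (searchCut_split (fun l => ((l).drop 4).drop 4) 4 z192_69_5_2 z192_69_5_3))))

end CfsgLib.M24Order.E6
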